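import Cfsg.Agent.H323.Pw.Coset
import Cfsg.Agent.H6.ORE.ChartOre

/-!
# Products of two elements of order prime to `n` in a group with a chart `2^(1+24)`, `Co1` (helper909)

`Ch.Chart Q z eta pi` in a group `M`, `n` even.

* `pr_of_pi` : `g ∈ C(z)`, `pi g = a₀ b₀ ≠ 1`, `a₀`, `b₀` of order prime to `n` without fixed points on `Λ/2Λ`;
* `pr_of_mem` : `g ∈ Q`, `g ≠ z`.
-/

set_option autoImplicit false

namespace Cfsg.Agent.H909.PwM

open Cfsg Cfsg.Spor Cfsg.Agent.MonsterU.Lam2 Cfsg.Agent.MonsterU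
open Cfsg.Agent.KFacts.LargeO2 (mem_of_triv)
open Cfsg.Agent.H6.ORE
open Cfsg.Agent.H78.Pw (Pr)
open Cfsg.Agent.H323.Pw (exists_lift ES.prod_step_fpf ES.pow_four Pr.of_es_mem)

section chart

variable {M : Type*} [Group M] {Q : Subgroup M} {z : M} {eta : M → L2}
  {pi : Subgroup.centralizer ({z} : Set M) →* Co1}

theorem ker_eq (h : Ch.Chart Q z eta pi) : pi.ker = Q.subgroupOf (CZ z) := by
  ext g
  rw [MonoidHom.mem_ker, h.pi_eq_one g]
  rfl

theorem fin_sub (h : Ch.Chart Q z eta pi) : Finite (Q.subgroupOf (CZ z)) := by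
  have hfinQ := h.fin
  refine Finite.of_injective (fun x : Q.subgroupOf (CZ z) => (⟨(x : CZ z), x.2⟩ : Q)) fun x y e => ?_
  have e' : ((x : CZ z) : M) = ((y : CZ z) : M) := congrArg (fun t : Q => (t : M)) e
  exact Subtype.ext (Subtype.ext e')

theorem fix_of (h : Ch.Chart Q z eta pi) {a : CZ z} (hfix : ∀ v : L2, pi a • v = v → v = 0) (x : CZ z)
    (hx : x ∈ Q.subgroupOf (CZ z)) (hxa : a * x * a⁻¹ = x ∨ a * x * a⁻¹ = x * zC z) : x = 1 ∨ x = zC z := by
  have hxQ : (x : M) ∈ Q := hx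
  have h3 := hfix _ (fix_iff h a hxQ (hxa.imp (congrArg Subtype.val) (congrArg Subtype.val)))
  exact ((h.eta_zero _ hxQ).1 h3).imp (fun e => Subtype.ext e) (fun e => Subtype.ext e)

theorem exists_pow (h : Ch.Chart Q z eta pi) {n : ℕ} (hn : 2 ∣ n) (x : CZ z) (hx : x ∈ Q.subgroupOf (CZ z)) :
    ∃ k : ℕ, x ^ n ^ k = 1 := by
  have hE := es_of_large h.large
  obtain ⟨m, rfl⟩ := hn
  refine ⟨2, ?_⟩
  rw [show (2 * m) ^ 2 = 4 * (m ^ 2) by ring, pow_mul, ES.pow_four hE hx, one_pow]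

/-- a lift of order prime to `n` -/
theorem exists_pre (h : Ch.Chart Q z eta pi) {n : ℕ} (hn : 2 ∣ n) {p : Co1} (hp : (orderOf p).Coprime n) :
    ∃ a : CZ z, pi a = p ∧ (orderOf a).Coprime n := by
  obtain ⟨a, rfl⟩ := h.pi_surj p
  obtain ⟨y, hy, hay⟩ := exists_lift pi (ker_eq h) (exists_pow h hn) hp
  refine ⟨a * y, ?_, hay⟩
  rw [← ker_eq h, MonoidHom.mem_ker] at hy
  rw [map_mul, hy, mul_one]

theorem pr_of_mem (h : Ch.Chart Q z eta pi) {n : ℕ} (hn : 2 ∣ n) {p : Co1} (hfix : ∀ v : L2, p • v = v → v = 0)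
    (hp : (orderOf p).Coprime n) {q : M} (hq : q ∈ Q) (hqz : q ≠ z) : Pr n q := by
  have hE := es_of_large h.large
  have hfin := fin_sub h
  obtain ⟨a, rfl, ha⟩ := exists_pre h hn hp
  have hqC : q ∈ CZ z := Subgroup.mem_centralizer_singleton_iff.2 (h.large.comm_z q hq)
  have h2 : Pr n (⟨q, hqC⟩ : CZ z) := Pr.of_es_mem hE ha (fix_of h hfix) hq fun e => hqz (congrArg Subtype.val e)
  exact h2.of_sub

theorem pr_of_pi (h : Ch.Chart Q z eta pi) {n : ℕ} (hn : 2 ∣ n) {g : CZ z} (hg : pi g ≠ 1) {a₀ b₀ : Co1}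
    (e : pi g = a₀ * b₀) (ha : ∀ v : L2, a₀ • v = v → v = 0) (hb : ∀ v : L2, b₀ • v = v → v = 0)
    (hao : (orderOf a₀).Coprime n) (hbo : (orderOf b₀).Coprime n) : Pr n (g : M) := by
  have hE := es_of_large h.large
  have hfinQ := h.fin
  have hfin := fin_sub h
  obtain ⟨a, rfl, hac⟩ := exists_pre h hn hao
  obtain ⟨b, rfl, hbc⟩ := exists_pre h hn hbo
  have hx : (a * b)⁻¹ * g ∈ Q.subgroupOf (CZ z) := by
    rw [← ker_eq h, MonoidHom.mem_ker, map_mul, map_inv, map_mul, e, inv_mul_cancel]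
  obtain ⟨u, -, w, -, e'⟩ := ES.prod_step_fpf hE (fix_of h ha) (fix_of h hb) (by
    by_contra hno
    push Not at hno
    apply hg
    rw [e, ← map_mul, h.pi_eq_one]
    apply mem_of_triv h.large (Subgroup.mem_centralizer_singleton_iff.1 (a * b).2)
    intro y hy
    have hyC : y ∈ CZ z := Subgroup.mem_centralizer_singleton_iff.2 (h.large.comm_z y hy)
    by_contra hcon
    push Not at hcon
    exact (hno ⟨y, hyC⟩ hy).elim (fun e1 => hcon.1 (congrArg Subtype.val e1)) fun e1 =>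
      hcon.2 (congrArg Subtype.val e1)) hx
  rw [mul_inv_cancel_left] at e'
  have h2 : Pr n g := by
    refine ⟨u * a * u⁻¹, w * b * w⁻¹, e'.symm, ?_, ?_⟩
    · rw [show u * a * u⁻¹ = MulAut.conj u a from rfl, MulEquiv.orderOf_eq]; exact hac
    · rw [show w * b * w⁻¹ = MulAut.conj w b from rfl, MulEquiv.orderOf_eq]; exact hbc
  exact h2.of_sub

end chart

end Cfsg.Agent.H909.PwM
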