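import Cfsg.Agent.H877.SK.B.Sch

/-!
# The order of the centralizer of two transpositions of the Baby Monster (helper909)

`exists_val` : `|C(t) ∩ C(s)| v = |C(t)|` for one of the five valencies `v`.
-/

set_option autoImplicit false
set_option maxRecDepth 100000

open Subgroup

namespace Cfsg.Agent.H909.PwM.SchB

open Cfsg Cfsg.Agent.BabyM.Inst Cfsg.Agent.H877.SK.B.Sch Cfsg.Agent.BabyM

theorem exists_val {t s : Spor.BabyMonster}
    (ht : IsConj (PresentedGroup.of Spor.BabyMonster.Gen.t1 : Spor.BabyMonster) t)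
    (hs : IsConj (PresentedGroup.of Spor.BabyMonster.Gen.t1 : Spor.BabyMonster) s) :
    ∃ j : Fin 5, Nat.card ↥(centralizer ({t} : Set Spor.BabyMonster) ⊓ centralizer ({s} : Set Spor.BabyMonster) :
      Subgroup Spor.BabyMonster) * vv j = 306129918735099415756800 := by
  have h0 : IsConj T (BM.KHAll.iso (PresentedGroup.of Spor.BabyMonster.Gen.t1 : Spor.BabyMonster)) := by
    have h1 := BM.KH.conj_x Spor.BabyMonster.Gen.t1
    rw [← BM.KHAll.iso_gB] at h1
    exact h1
  obtain ⟨a, ha⟩ := isConj_iff.1 (h0.trans (BM.KHAll.iso.toMonoidHom.map_isConj ht))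
  obtain ⟨b, hb⟩ := isConj_iff.1 (h0.trans (BM.KHAll.iso.toMonoidHom.map_isConj hs))
  let e := BM.KHAll.iso.trans (MulAut.conj a⁻¹)
  have he1 : e t = T := by
    show a⁻¹ * BM.KHAll.iso t * a⁻¹⁻¹ = T
    have : BM.KHAll.iso t = a * T * a⁻¹ := ha.symm
    rw [this]; group
  have he2 : e s = (a⁻¹ * b) * T * (a⁻¹ * b)⁻¹ := by
    show a⁻¹ * BM.KHAll.iso s * a⁻¹⁻¹ = _
    have : BM.KHAll.iso s = b * T * b⁻¹ := hb.symm
    rw [this]; group
  rw [conj_cent e t s, he1, he2]
  exact ⟨_, (card_mul (a⁻¹ * b)).trans (Instance.all.card_cent Instance.tr)⟩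

end Cfsg.Agent.H909.PwM.SchB
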