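import Cfsg.Agent.H715.Mon.Colour

/-!
# The order of the centralizer of two `2A`-involutions of the Monster (helper909)

`card_mul` : `|C(s) ∩ C(s')|` from the colour of the pair.
-/

set_option autoImplicit false
set_option maxRecDepth 100000

namespace Cfsg.Agent.H909.PwM.SchM

open Cfsg Cfsg.Agent.MonsterX Cfsg.Agent.MonsterX.InstData Cfsg.Agent.MonsterX.MainPack
open Cfsg.Agent.MonsterX.Model Cfsg.Agent.MonsterX.MainBasic
open Cfsg.Agent.H816.MSch Cfsg.Agent.H816.MEnt Cfsg.Agent.H816.IMEig
open Cfsg.Agent.H444.FprM (MG card_M)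
open Cfsg.Agent.H715.Mon.Colour
open Subgroup (centralizer mem_centralizer_singleton_iff)

theorem stab {s s' : MG} (hs : IsT s) (hs' : IsT s') :
    MulAction.stabilizer MG (ax s, ax s') = centralizer ({s} : Set MG) ⊓ centralizer ({s'} : Set MG) := by
  have h1 : ∀ {s : MG} (_ : IsT s) (g : MG), g • ax s = ax s ↔ g * s = s * g := by
    intro s hs g
    constructor
    · intro h
      rw [← ax_conj hs] at h
      exact mul_inv_eq_iff_eq_mul.1 (ax_inj (hs.conj g) hs h)
    · exact smul_ax hs
  ext g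
  rw [MulAction.mem_stabilizer_iff, Subgroup.mem_inf, mem_centralizer_singleton_iff, mem_centralizer_singleton_iff,
    ← h1 hs, ← h1 hs', Prod.smul_mk, Prod.mk.injEq]

/-- **The centralizer of a pair.** -/
theorem card_mul {s s' : MG} (hs : IsT s) (hs' : IsT s') :
    97239461142009186000 * k (ka s s') *
      Nat.card ↥(centralizer ({s} : Set MG) ⊓ centralizer ({s'} : Set MG) : Subgroup MG) =
        808017424794512875886459904961710757005754368000000000 := by
  have hf := Cfsg.Agent.H444.FprM.finite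
  have h1 : Nat.card (MulAction.orbit MG (ax s, ax s')) = 97239461142009186000 * k (ka s s') := by
    rw [← card_pairs]
    apply Nat.card_congr
    refine ⟨fun p => ⟨p.1, ?_⟩, fun p => ⟨p.1, ?_⟩, fun _ => rfl, fun _ => rfl⟩
    · obtain ⟨_, ⟨g, rfl⟩⟩ := p
      exact c_inv g _ _
    · obtain ⟨⟨a, b⟩, hab⟩ := p
      obtain ⟨g, hg1, hg2⟩ := c_tr (ax s) (ax s') a b hab.symm
      exact ⟨g, Prod.ext hg1 hg2⟩
  have h3 := Nat.card_congr (MulAction.orbitProdStabilizerEquivGroup MG (ax s, ax s'))
  rw [Nat.card_prod, h1, stab hs hs', card_M] at h3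
  exact h3

end Cfsg.Agent.H909.PwM.SchM
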