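import Cfsg.Agent.H909.PwM.Pair
import Cfsg.Agent.H909.PwM.SchB
import Cfsg.Agent.H909.PwM.SchM
import Cfsg.Agent.CTwoTab.BInst
import Cfsg.Agent.BpSpor.MBigEleven

/-!
# Elements of the Monster with square a `2A`-involution (helper909)

`card_cent_le` : `|C(h)| ≤ 26489012826931200` if `h * h` is in the class `2A`.
-/

set_option autoImplicit false
set_option maxRecDepth 100000

namespace Cfsg.Agent.H909.PwM.TwoA

open Cfsg Cfsg.Agent.MonsterX Cfsg.Agent.MonsterX.InstData Cfsg.Agent.MonsterX.MainPack Cfsg.Agent.MonsterU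
open Cfsg.Agent.MonsterN Cfsg.Agent.LThreeMB Cfsg.Agent.BabyComp Cfsg.Agent.MonsterN.LitInst
open Cfsg.Agent.BabyComp.Main Cfsg.Agent.BabyComp.BaseTwo
open Cfsg.Agent.MonsterX.MainBasic Cfsg.Agent.MonsterX.Model
open Cfsg.Agent.BpSpor.MBigModel (MG zz cls card_cent_z)
open Cfsg.Agent.H713.Spor
open Subgroup (centralizer zpowers mem_centralizer_singleton_iff card_map_of_injective mem_zpowers)

/-- the numbers -/
theorem numbers {a : ℕ} {i : Fin 9} {j : Fin 5} (h1 : 2 * a * H877.SK.B.Sch.vv j = 306129918735099415756800)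
    (h2 : 97239461142009186000 * H816.MSch.k i * a = 808017424794512875886459904961710757005754368000000000) :
    4 * a ≤ 26489012826931200 := by
  have hv : H877.SK.B.Sch.vv j = 1 ∨ H877.SK.B.Sch.vv j = 3968055 ∨ 23113728 ≤ H877.SK.B.Sch.vv j := by
    clear h1
    revert j; decide
  have hk : H816.MSch.k i = 1 ∨ H816.MSch.k i = 27143910000 ∨ H816.MSch.k i = 11707448673375 ∨
      H816.MSch.k i = 2031941058560000 ∨ H816.MSch.k i = 91569524834304000 ∨ H816.MSch.k i = 1102935324621312000 ∨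
      H816.MSch.k i = 1254793905192960000 ∨ H816.MSch.k i = 30434513446055706624 ∨
      H816.MSch.k i = 64353605265653760000 := by
    clear h2
    revert i; decide
  rcases hv with hv | hv | hv
  · exfalso
    rw [hv] at h1
    rcases hk with hk | hk | hk | hk | hk | hk | hk | hk | hk <;> rw [hk] at h2 <;> omega
  · exfalso
    rw [hv] at h1
    rcases hk with hk | hk | hk | hk | hk | hk | hk | hk | hk <;> rw [hk] at h2 <;> omega
  · have h3 : 2 * a * 23113728 ≤ 306129918735099415756800 := by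
      rw [← h1]
      exact Nat.mul_le_mul_left _ hv
    omega

/-- an involution commuting with an element of order 17 -/
theorem isT {y s : MG} (hy : orderOf y = 17) (hs : orderOf s = 2) (h : s * y = y * s) :
    H715.Mon.Colour.IsT s := by
  have hfin := BpSpor.MBigModel.finite
  rcases cls hs with ⟨k, hk⟩ | hv
  · exfalso
    have h1 : orderOf y ∣ Nat.card ↥(centralizer ({s} : Set MG)) := by
      rw [← Subgroup.orderOf_mk y (mem_centralizer_singleton_iff.2 h.symm)]
      exact orderOf_dvd_natCard _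
    rw [← hk, Cfsg.Agent.BpSpor.card_cent_of_conj (rfl : k * zz * k⁻¹ = _), card_cent_z, hy] at h1
    norm_num at h1
  · obtain ⟨g, hg⟩ := isConj_iff.1 (show IsConj (tG LitFin.all.hG LitFin.all.hR) s from hv)
    exact ⟨g, hg⟩

theorem key : ∃ τ : MG, LThreeB.Row.TA τ ∧ ∀ b : MG, b * b = τ →
    Nat.card ↥(centralizer ({b} : Set MG)) ≤ 26489012826931200 := by
  refine CTwoTab.BInst.elim ?_
  intro K iF iT hK hF i1 i2 i3 i4 q y h π f₁ f₂ f₃ f₄ M₁ hq h10 DK Fc hz hcz hcd hL hc5 big hq5 hcard Bs hr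
  obtain ⟨M₂, Bs2⟩ := BaseTwo.exists_base2 hq5
  set θ := (BB KDone.K KLinkInst.x₀).subtype with hθ
  have hinj : Function.Injective θ := Subtype.val_injective
  refine ⟨θ (tb KDone.K KLinkInst.x₀), LThreeB.Par.ta_iota LitFin.all KDone.lnk KDone.lft, fun b hb => ?_⟩
  set τ := tb KDone.K KLinkInst.x₀ with hτ
  have hbτ : b * θ τ = θ τ * b := by rw [← hb, mul_assoc]
  obtain ⟨b', rfl⟩ := hr b hbτ
  have hb' : b' * b' = τ := hinj (by rw [map_mul, hb])
  obtain ⟨w, w', hw, hw', hww, horb⟩ := Pair.exists_pair (hF := hF)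
    (Cfsg.Agent.TwoESix.LeviG.rootFacts hK hF) (Cfsg.Agent.BabyU.KeyInst.extra hF)
    (Cfsg.Agent.TwoESix.RootsInst.roots K hF) hq h10 DK big Bs2 hb'
  have h55 : y 5 * y 5 = 1 := h.sq 5 (by norm_num) (by norm_num)
  have hsqc : ∀ {v : BB KDone.K KLinkInst.x₀}, IsConj (y 5) v → v * v = 1 := by
    intro v hv
    obtain ⟨c, rfl⟩ := isConj_iff.1 hv
    calc c * y 5 * c⁻¹ * (c * y 5 * c⁻¹) = c * (y 5 * y 5) * c⁻¹ := by group
      _ = 1 := by rw [h55]; group
  have hsq : (w * w') * (w * w') = τ := by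
    rcases hww with h1 | h1
    · rw [h1, hb']
    · rw [h1, ← mul_inv_rev, hb']
      exact inv_eq_of_mul_eq_one_left hq.zz
  -- the class of `y 5`
  have hT5 : H715.Mon.Colour.IsT (θ (y 5)) := by
    have h17 : Fact (Nat.Prime 17) := ⟨by norm_num⟩
    obtain ⟨x, hx⟩ := exists_prime_orderOf_dvd_card' (G := ↥(centralizer ({q (y 5)} : Set Spor.BabyMonster))) 17
      (by rw [hcard]; norm_num)
    have hx' : orderOf (x : Spor.BabyMonster) = 17 := by rw [Subgroup.orderOf_coe, hx]
    obtain ⟨x₀, hx₀, hqx⟩ := BOf.exists_lift hq (p := 17) (by decide) (v := (x : Spor.BabyMonster))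
      (by rw [← hx', pow_orderOf_eq_one])
    have hx₁ : x₀ ≠ 1 := by
      rintro rfl
      rw [map_one] at hqx
      rw [← hqx, orderOf_one] at hx'
      norm_num at hx'
    have hcm : y 5 * x₀ = x₀ * y 5 := BOf.comm_of_map hq (p := 17) (by decide) hx₀ (by
      rw [hqx]; exact (mem_centralizer_singleton_iff.1 x.2).symm)
    refine isT (y := θ x₀) ?_ ?_ ?_
    · rw [orderOf_injective θ hinj]
      exact orderOf_eq_prime hx₀ hx₁
    · rw [orderOf_injective θ hinj]
      refine orderOf_eq_prime (by rw [pow_two, h55]) ?_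
      intro h1
      rw [h1, map_one] at hcard
      have h6 : centralizer ({1} : Set Spor.BabyMonster) = ⊤ := by
        rw [eq_top_iff]
        intro g _
        rw [mem_centralizer_singleton_iff, mul_one, one_mul]
      rw [h6, Subgroup.card_top, B.card_b] at hcard
      norm_num at hcard
    · rw [← map_mul, hcm, map_mul]
  have hTc : ∀ {v : BB KDone.K KLinkInst.x₀}, IsConj (y 5) v → H715.Mon.Colour.IsT (θ v) := by
    intro v hv
    obtain ⟨c, rfl⟩ := isConj_iff.1 hv
    rw [map_mul, map_mul, map_inv]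
    exact hT5.conj _
  -- the two counts
  have hcθ : ∀ x : MG, x * θ τ = θ τ * x → ∃ x', θ x' = x := hr
  have e1 := Pair.card_eq hq (hsqc hw) (hsqc hw') hsq
  have e2 : Nat.card ↥(centralizer ({w} : Set (BB KDone.K KLinkInst.x₀)) ⊓ centralizer ({w'} : Set _) : Subgroup _) =
      Nat.card ↥(centralizer ({θ w} : Set MG) ⊓ centralizer ({θ w'} : Set MG) : Subgroup MG) := by
    rw [← card_map_of_injective (f := θ) hinj]
    congr 2
    ext x
    constructor
    · rintro ⟨x, ⟨hx, hx'⟩, rfl⟩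
      refine ⟨mem_centralizer_singleton_iff.2 ?_, mem_centralizer_singleton_iff.2 ?_⟩
      · rw [← map_mul, mem_centralizer_singleton_iff.1 hx, map_mul]
      · rw [← map_mul, mem_centralizer_singleton_iff.1 hx', map_mul]
    · rintro ⟨hx, hx'⟩
      have c1 : Commute x (θ w) := mem_centralizer_singleton_iff.1 hx
      have c2 : Commute x (θ w') := mem_centralizer_singleton_iff.1 hx'
      have c3 : Commute x (θ τ) := by
        rw [← hsq, map_mul, map_mul]
        exact (c1.mul_right c2).mul_right (c1.mul_right c2)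
      obtain ⟨x, rfl⟩ := hcθ x c3.eq
      refine ⟨x, ⟨mem_centralizer_singleton_iff.2 (hinj ?_), mem_centralizer_singleton_iff.2 (hinj ?_)⟩, rfl⟩
      · rw [map_mul, map_mul, c1.eq]
      · rw [map_mul, map_mul, c2.eq]
  obtain ⟨j, hj⟩ := SchB.exists_val (t := q w) (s := q w') (hq5.symm.trans (q.map_isConj hw))
    (hq5.symm.trans (q.map_isConj hw'))
  rw [e1, e2] at hj
  have h4 := numbers hj (SchM.card_mul (hTc hw) (hTc hw'))
  refine le_trans ?_ h4
  -- the orbit of `w`
  classical
  let s : Finset MG := {θ w, θ (w * τ), θ w', θ (w' * τ)}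
  have hs : ∀ x ∈ centralizer ({θ b'} : Set MG), x * θ w * x⁻¹ ∈ s := by
    intro x hx
    have c1 : Commute x (θ b') := mem_centralizer_singleton_iff.1 hx
    have c3 : Commute x (θ τ) := by
      rw [← hb', map_mul]
      exact c1.mul_right c1
    obtain ⟨x, rfl⟩ := hcθ x c3.eq
    have h5 := horb x (hinj (by rw [map_mul, map_mul, c1.eq]))
    have h7 : θ x * θ w * (θ x)⁻¹ = θ (x * w * x⁻¹) := by rw [map_mul, map_mul, map_inv]
    have h8 : ∀ v, v = θ w ∨ v = θ (w * τ) ∨ v = θ w' ∨ v = θ (w' * τ) → v ∈ s := by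
      intro v hv
      rcases hv with rfl | rfl | rfl | rfl
      · exact Finset.mem_insert_self _ _
      · exact Finset.mem_insert_of_mem (Finset.mem_insert_self _ _)
      · exact Finset.mem_insert_of_mem (Finset.mem_insert_of_mem (Finset.mem_insert_self _ _))
      · exact Finset.mem_insert_of_mem (Finset.mem_insert_of_mem (Finset.mem_insert_of_mem (Finset.mem_singleton_self _)))
    apply h8
    rw [h7]
    rcases h5 with h5 | h5 | h5 | h5
    · exact Or.inl (by rw [h5])
    · exact Or.inr (Or.inl (by rw [h5]))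
    · exact Or.inr (Or.inr (Or.inl (by rw [h5])))
    · exact Or.inr (Or.inr (Or.inr (by rw [h5])))
  have h6 := Pair.card_le_mul (centralizer ({θ b'} : Set MG)) (θ w) s hs
  refine le_trans h6 (Nat.mul_le_mul Finset.card_le_four (Subgroup.card_le_of_le ?_))
  rintro x ⟨hx, hx'⟩
  have c1 : Commute x (θ b') := mem_centralizer_singleton_iff.1 hx
  have c2 : Commute x (θ w) := mem_centralizer_singleton_iff.1 hx'
  refine ⟨hx', mem_centralizer_singleton_iff.2 ?_⟩
  rcases hww with h5 | h5
  · have h7 : θ w' = (θ w)⁻¹ * θ b' := by rw [← h5, map_mul]; group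
    rw [h7]
    exact (c2.inv_right.mul_right c1).eq
  · have h7 : θ w' = (θ w)⁻¹ * (θ b')⁻¹ := by rw [← map_inv θ b', ← h5, map_mul]; group
    rw [h7]
    exact (c2.inv_right.mul_right c1.inv_right).eq

/-- **Square roots of a `2A`-involution.** -/
theorem card_cent_le {b v : MG} (hb : b * b = v) (hv : LThreeB.Row.TA v) :
    Nat.card ↥(centralizer ({b} : Set MG)) ≤ 26489012826931200 := by
  obtain ⟨τ, hτ, hk⟩ := key
  have h1 : IsConj v τ := (show IsConj (tG LitFin.all.hG LitFin.all.hR) v from hv).symm.trans hτ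
  obtain ⟨g, hg⟩ := isConj_iff.1 h1
  rw [← Cfsg.Agent.BpSpor.card_cent_of_conj (rfl : g * b * g⁻¹ = _)]
  refine hk _ ?_
  rw [← hg, ← hb]
  group

end Cfsg.Agent.H909.PwM.TwoA
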