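import Cfsg.Agent.H909.PwM.Base
import Cfsg.Agent.H909.PwM.TwoA
import Cfsg.Agent.H740.OreM.CaseT

/-!
# The elements of even order of the Monster (helper909)

* `inQ_inv` : involutions are in conjugates of `2^(1+24)`;
* `even` : so is an element of even order, or its centralizer has order at most `26489012826931200`.
-/

set_option autoImplicit false

namespace Cfsg.Agent.H909.PwM.Even

open Cfsg Cfsg.Agent.MonsterX Cfsg.Agent.MonsterX.MainPack Cfsg.Agent.MonsterU Cfsg.Agent.MonsterN
open Cfsg.Agent.BpSpor.MBigModel (MG zz cls)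
open Cfsg.Agent.H78.Pw (Pr)
open Cfsg.Agent.H909.PwM.Base (KK InQ inQ_or_z)
open Subgroup (centralizer zpowers mem_centralizer_singleton_iff mem_zpowers)

/-- **Involutions.** -/
theorem inQ_inv {v : MG} (hv : orderOf v = 2) : InQ v := by
  rcases cls hv with ⟨g, hg⟩ | hT
  · refine ⟨g⁻¹, ?_⟩
    rw [← hg, show g⁻¹ * (g * zz * g⁻¹) * g⁻¹⁻¹ = zz by group]
    exact Cfsg.Agent.BpSpor.MBigModel.chart.large.z_mem
  · have h1 : LThreeB.Row.TA (KDone.K.ι KLinkInst.x₀) := LThreeB.Par.ta_iota LitFin.all KDone.lnk KDone.lft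
    have h2 : IsConj (tG LitFin.all.hG LitFin.all.hR) v := hT
    have h3 : IsConj (tG LitFin.all.hG LitFin.all.hR) (KDone.K.ι KLinkInst.x₀) := h1
    obtain ⟨k, hk⟩ := isConj_iff.1 (h2.symm.trans h3)
    refine ⟨k, ?_⟩
    rw [hk]
    exact ⟨_, rfl⟩

/-- the centralizer of a power -/
theorem card_cent_pow {G : Type*} [Group G] [Finite G] (g : G) (n : ℕ) :
    Nat.card ↥(centralizer ({g} : Set G)) ≤ Nat.card ↥(centralizer ({g ^ n} : Set G)) := by
  refine Subgroup.card_le_of_le fun x hx => mem_centralizer_singleton_iff.2 ?_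
  exact ((show Commute x g from mem_centralizer_singleton_iff.1 hx).pow_right n).eq

/-- **Elements of even order.** -/
theorem even
    (hB : ∀ {x : MG} {q : ℕ}, q.Prime → 5 ≤ q → orderOf x = q → Nat.card ↥(centralizer ({x} : Set MG)) ≤ KK)
    {g : MG} (hg : 2 ∣ orderOf g) : InQ g ∨ Nat.card ↥(centralizer ({g} : Set MG)) ≤ KK := by
  have hfin := BpSpor.MBigModel.finite
  obtain ⟨m, hm⟩ := hg
  have h0 : 0 < orderOf g := orderOf_pos g
  have hm0 : m ≠ 0 := by
    rintro rfl
    omega
  have hv : orderOf (g ^ m) = 2 := by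
    rw [orderOf_pow_of_dvd hm0 (Dvd.intro_left 2 hm.symm), hm, Nat.mul_div_cancel _ (Nat.pos_of_ne_zero hm0)]
  have hvg : g ^ m ∈ zpowers g := ⟨(m : ℤ), zpow_natCast g m⟩
  rcases cls hv with ⟨k, hk⟩ | hT
  · exact inQ_or_z hvg hk
  · by_cases h2 : ∃ k, orderOf g = 2 ^ k
    · obtain ⟨k, hk⟩ := h2
      rcases Nat.lt_or_ge k 2 with hk2 | hk2
      · left
        apply inQ_inv
        interval_cases k
        · omega
        · exact hk
      · right
        obtain ⟨j, rfl⟩ : ∃ j, k = j + 2 := ⟨k - 2, by omega⟩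
        have hmj : m = 2 ^ j * 2 := by
          have : 2 * m = 2 ^ (j + 2) := by rw [← hm, hk]
          rw [pow_add] at this
          omega
        refine le_trans (card_cent_pow g (2 ^ j)) (TwoA.card_cent_le (v := g ^ m) ?_ hT)
        rw [← pow_add, hmj, mul_two]
    · right
      push Not at h2
      exact H740.OreM.card_cent_le (K := KK) (by norm_num) hB hT hvg h2

end Cfsg.Agent.H909.PwM.Even
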