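import Cfsg.Agent.H909.PwM.Even
import Cfsg.Agent.H643.PwCnt
import Cfsg.Agent.H134.Sq.Base
import Cfsg.Agent.MonsterP.Equiv

/-!
# S2465, S2453, the row of the Monster: assembly (helper909)

`pw_MG` : from the sieve (`hS`), the bounds for the elements of prime order at least 5 (`hB`), the elements of order
`3 ^ k`, `k ≥ 2` (`h9`), and the elements of order 3 which do not commute with an involution (`h3`).
-/

set_option autoImplicit false

namespace Cfsg.Agent.H909.PwM.Asm

open Cfsg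
open Cfsg.Agent.BpSpor.MBigModel (MG)
open Cfsg.Agent.H78.Pw (Pr All Pw)
open Cfsg.Agent.H909.PwM.Base (KK InQ pr_three)
open Cfsg.Agent.H909.PwM.Even (even card_cent_pow)
open Subgroup (centralizer)

/-- the exceptional elements -/
def Ex (g : MG) : Prop := Pr 6 g ∧ ∀ p : ℕ, p.Prime → 5 ≤ p → (orderOf g).Coprime p

theorem ex_of_dvd {g : MG} (h : Pr 6 g) (hd : orderOf g ∣ 12) : Ex g := by
  refine ⟨h, fun p hp h5 => Nat.Coprime.of_dvd_left hd ?_⟩
  refine ((Nat.Prime.coprime_iff_not_dvd hp).2 fun h1 => ?_).symm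
  have h2 : p ∣ 2 ^ 2 * 3 := h1
  rcases (Nat.Prime.dvd_mul hp).1 h2 with h3 | h3
  · have := (Nat.prime_dvd_prime_iff_eq hp Nat.prime_two).1 (hp.dvd_of_dvd_pow h3)
    omega
  · have := (Nat.prime_dvd_prime_iff_eq hp Nat.prime_three).1 h3
    omega

section

variable {K : ℕ} (hK : KK ≤ K)
  (hB : ∀ {x : MG} {q : ℕ}, q.Prime → 5 ≤ q → orderOf x = q → Nat.card ↥(centralizer ({x} : Set MG)) ≤ KK)
  (h9 : ∀ g : MG, (∃ k, g ^ 3 ^ k = 1) → g ^ 3 ≠ 1 → Nat.card ↥(centralizer ({g} : Set MG)) ≤ K)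
  (h3 : ∀ g : MG, orderOf g = 3 → (∀ v : MG, orderOf v = 2 → v * g ≠ g * v) →
    Nat.card ↥(centralizer ({g} : Set MG)) ≤ K)

include hK hB h9 h3 in
/-- **All the elements.** -/
theorem key (g : MG) : Ex g ∨ Nat.card ↥(centralizer ({g} : Set MG)) ≤ K := by
  have hfin := BpSpor.MBigModel.finite
  by_cases h1 : g = 1
  · left
    rw [h1]
    exact ex_of_dvd (Pr.one 6) (by rw [orderOf_one]; exact one_dvd _)
  by_cases h2 : 2 ∣ orderOf g
  · rcases even hB h2 with h | h
    · exact Or.inl (ex_of_dvd h.pr ((orderOf_dvd_of_pow_eq_one h.pow_four).trans (by norm_num)))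
    · exact Or.inr (h.trans hK)
  by_cases hk : ∃ k, g ^ 3 ^ k = 1
  · by_cases hg3 : g ^ 3 = 1
    · have ho : orderOf g = 3 := orderOf_eq_prime hg3 h1
      by_cases hv : ∃ v : MG, orderOf v = 2 ∧ v * g = g * v
      · obtain ⟨v, hv, hvg⟩ := hv
        refine Or.inl (ex_of_dvd (pr_three ho (v := v) ?_ ?_ hvg.symm) (by rw [ho]; norm_num))
        · rw [← pow_two, ← hv, pow_orderOf_eq_one]
        · rintro rfl
          rw [orderOf_one] at hv
          norm_num at hv
      · push Not at hv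
        exact Or.inr (h3 g ho hv)
    · exact Or.inr (h9 g hk hg3)
  · right
    obtain ⟨q, hq, hq5, hqd⟩ : ∃ q : ℕ, q.Prime ∧ 5 ≤ q ∧ q ∣ orderOf g := by
      by_contra hno
      push Not at hno
      apply hk
      refine ⟨(orderOf g).primeFactorsList.length, ?_⟩
      have h4 := Nat.eq_prime_pow_of_unique_prime_dvd (n := orderOf g) (p := 3) (orderOf_pos g).ne' (fun {d} hd hdn => by
        by_contra hne
        have h5 : d ≠ 2 := fun e => h2 (e ▸ hdn)
        have h6 : d < 5 := by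
          by_contra h7
          exact hno d hd (by omega) hdn
        have h7 := hd.two_le
        interval_cases d
        · exact h5 rfl
        · exact hne rfl
        · norm_num at hd)
      rw [← h4, pow_orderOf_eq_one]
    obtain ⟨m, hm⟩ := hqd
    have hm0 : m ≠ 0 := by
      rintro rfl
      have := orderOf_pos g
      omega
    have hx : orderOf (g ^ m) = q := by
      rw [orderOf_pow_of_dvd hm0 (Dvd.intro_left q hm.symm), hm, Nat.mul_div_cancel _ (Nat.pos_of_ne_zero hm0)]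
    exact (card_cent_pow g m).trans ((hB hq hq5 hx).trans hK)

variable {s t : ℕ} (hs : s.Prime) (hs5 : 5 ≤ s) (ht : t.Prime) (ht5 : 5 ≤ t)
  (hS : ∀ g : MG, Nat.card ↥(centralizer ({g} : Set MG)) ≤ K → ∃ x y : MG, g = x * y ∧ orderOf x = s ∧ orderOf y = t)

theorem not_sq {p : ℕ} (hp : p = 17 ∨ p = 19 ∨ p = 23 ∨ p = 29 ∨ p = 31 ∨ p = 41 ∨ p = 47 ∨ p = 59 ∨ p = 71) :
    ¬ p ^ 2 ∣ Nat.card MG := by
  rw [BpSpor.MBigModel.card_M]
  rcases hp with rfl | rfl | rfl | rfl | rfl | rfl | rfl | rfl | rfl <;> norm_num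

theorem not_comm : ¬ IsMulCommutative MG := by
  intro h
  have h1 : centralizer ({BpSpor.MBigModel.zz} : Set MG) = ⊤ := by
    rw [eq_top_iff]
    intro g _
    rw [Subgroup.mem_centralizer_singleton_iff]
    exact h.is_comm.comm _ _
  have h2 := BpSpor.MBigModel.card_cent_z
  rw [h1, Subgroup.card_top, BpSpor.MBigModel.card_M] at h2
  norm_num at h2

include hK hB h9 h3 hs hs5 ht ht5 hS in
/-- **The row of the Monster on the model.** -/
theorem pw_MG (hs2 : ¬ s ^ 2 ∣ Nat.card MG) (ht2 : ¬ t ^ 2 ∣ Nat.card MG) : Pw MG := by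
  have hfin := BpSpor.MBigModel.finite
  have hsim := BpSpor.MBigModel.simple
  refine ⟨fun g => ?_, fun p hp h5 => ?_⟩
  · rcases key hK hB h9 h3 g with h | h
    · exact h.1
    · obtain ⟨x, y, e, hx, hy⟩ := hS g h
      have hc : ∀ {r : ℕ}, r.Prime → 5 ≤ r → r.Coprime 6 := by
        intro r hr hr5
        rw [show (6 : ℕ) = 2 * 3 from rfl]
        exact Nat.Coprime.mul_right ((Nat.coprime_primes hr Nat.prime_two).2 (by omega))
          ((Nat.coprime_primes hr Nat.prime_three).2 (by omega))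
      exact ⟨x, y, e, by rw [hx]; exact hc hs hs5, by rw [hy]; exact hc ht ht5⟩
  · rcases eq_or_ne p s with rfl | hps
    · exact H643.PwCnt.all_of_not_sq_dvd not_comm hp hs2
    rcases eq_or_ne p t with rfl | hpt
    · exact H643.PwCnt.all_of_not_sq_dvd not_comm hp ht2
    intro g
    rcases key hK hB h9 h3 g with h | h
    · exact Pr.of_coprime (h.2 p hp h5)
    · obtain ⟨x, y, e, hx, hy⟩ := hS g h
      exact ⟨x, y, e, by rw [hx]; exact (Nat.coprime_primes hs hp).2 hps.symm,
        by rw [hy]; exact (Nat.coprime_primes ht hp).2 hpt.symm⟩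

end

/-- transport -/
theorem pw_of_iso (h : Pw MG) {S : Type*} [Group S] (hS : Spor.IsoM S) : Pw S := by
  obtain ⟨e⟩ := hS
  obtain ⟨f⟩ := Cfsg.Agent.MonsterP.Equiv.equiv
  exact h.congr (f.symm.trans e.symm)

/-- products of two squares, products of two cubes -/
theorem allP_of_pw {S : Type*} [Group S] (h : Pw S) : H134.Sq.AllP 2 S ∧ H134.Sq.AllP 3 S := by
  constructor
  · intro g
    obtain ⟨a, b, e, ha, hb⟩ := h.1 g
    exact H134.Sq.isP_of_mul e (ha.of_dvd_right (by norm_num)) (hb.of_dvd_right (by norm_num))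
  · intro g
    obtain ⟨a, b, e, ha, hb⟩ := h.1 g
    exact H134.Sq.isP_of_mul e (ha.of_dvd_right (by norm_num)) (hb.of_dvd_right (by norm_num))

end Cfsg.Agent.H909.PwM.Asm
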