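import Cfsg.Agent.H938.Pw.Avg
import Cfsg.Agent.H334.Pw.MSieve

/-!
# The averaged sieve of the Monster, p = 59 (helper909)

From the degree bound `DegGe` : every `g` with `|C(g)| ≤ KA = 860000000000000000` is a product of two elements of order 59.
-/

set_option autoImplicit false

namespace Cfsg.Agent.H909.PwM.Avg59

open Cfsg Subgroup
open Cfsg.Agent.Characters.Core
open Cfsg.Agent.H653.Sieve
open Cfsg.Agent.H65.Ore
open Cfsg.Agent.BpSpor.MBigModel
open Cfsg.Agent.H606.OreM (not_comm_MG finMG simpleMG)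
open Cfsg.Agent.H334.Pw.Mon (DegGe)

/-- the bound -/
abbrev KA : ℕ := 860000000000000000

theorem num : numOK 808017424794512875886459904961710757005754368000000000 59 1 29 2
    [(0, 0), (1, 2), (58, -2), (30, 1), (29, -1)] 0 false = true := by decide +kernel

theorem mem_cases {d : ℕ} {w : ℤ} (h : (d % 59, w) ∈ ([(0, 0), (1, 2), (58, -2), (30, 1), (29, -1)] : List (ℕ × ℤ))) :
    (59 ∣ d ∧ w = 0) ∨ (¬ 59 ∣ d ∧ w * w ≤ 4) := by
  simp only [List.mem_cons, Prod.mk.injEq, List.not_mem_nil, or_false] at h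
  rcases h with ⟨h1, h2⟩ | ⟨h1, h2⟩ | ⟨h1, h2⟩ | ⟨h1, h2⟩ | ⟨h1, h2⟩
  · left; exact ⟨Nat.dvd_of_mod_eq_zero h1, h2⟩
  all_goals
    right
    refine ⟨by omega, ?_⟩
    rw [h2]; norm_num

/-- **The averaged sieve.** -/
theorem avg (c59 : ∀ x : MG, orderOf x = 59 → Nat.card (centralizer ({x} : Set MG)) = 59) (hd : DegGe) {g : MG}
    (hg : Nat.card (centralizer ({g} : Set MG)) ≤ KA) :
    ∃ x y : MG, g = x * y ∧ orderOf x = 59 ∧ orderOf y = 59 := by
  classical
  have : Finite (IrrCharacter MG) := finite_irr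
  have := Fintype.ofFinite (IrrCharacter MG)
  have hp59 : Fact (Nat.Prime 59) := ⟨by norm_num⟩
  obtain ⟨x, hx⟩ := Cfsg.Agent.H455.OreM.Deg19.exists_order (r := 59) (by norm_num) (by norm_num)
  obtain ⟨P, W, hP, he, hcol, hok⟩ := exists_col not_comm_MG card_M hx (k := 1) (by rw [c59 x hx]) 29 2
    [(0, 0), (1, 2), (58, -2), (30, 1), (29, -1)] 0 false num
  have hone : ((one1 MG : IrrCharacter MG) : MG → ℂ) = 1 := rfl
  have hW1 : W (one1 MG) = 2 := hok.one _ hone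
  have hsq : ∑ χ : IrrCharacter MG, W χ * W χ = 118 := hok.sq
  have hsq1 : ∑ χ ∈ Finset.univ.erase (one1 MG), W χ * W χ = 114 := by
    rw [← Finset.add_sum_erase Finset.univ _ (Finset.mem_univ (one1 MG)), hW1] at hsq
    linarith
  have hterm : ∀ χ ∈ Finset.univ.erase (one1 MG),
      (((W χ * W χ : ℤ) : ℝ) / (H653.Sieve.deg χ : ℝ)) ^ 2 ≤ 4 / (4962352590 : ℝ) ^ 2 * ((W χ * W χ : ℤ) : ℝ) := by
    intro χ hχ
    have hχ1 : (χ : MG → ℂ) ≠ 1 := by
      intro h
      exact Finset.ne_of_mem_erase hχ (Subtype.ext h)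
    rcases mem_cases (hok.mem χ) with ⟨-, h0⟩ | ⟨hnd, h4⟩
    · rw [h0]; norm_num
    · have h5 : (4962352590 : ℝ) ≤ (H653.Sieve.deg χ : ℝ) := by exact_mod_cast hd χ hχ1 hnd
      have h6 : ((W χ * W χ : ℤ) : ℝ) ≤ 4 := by exact_mod_cast h4
      have h7 : (0 : ℝ) ≤ ((W χ * W χ : ℤ) : ℝ) := by exact_mod_cast mul_self_nonneg _
      rw [div_pow, div_mul_eq_mul_div, div_le_div_iff₀ (by positivity) (by positivity)]
      have h8 : ((W χ * W χ : ℤ) : ℝ) ^ 2 ≤ 4 * ((W χ * W χ : ℤ) : ℝ) := by nlinarith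
      have h9 : (4962352590 : ℝ) ^ 2 ≤ (H653.Sieve.deg χ : ℝ) ^ 2 := pow_le_pow_left₀ (by norm_num) h5 2
      exact mul_le_mul h8 h9 (by positivity) (by positivity)
  obtain ⟨a, ha, ha1, b, hb, hb1, u, v, huv⟩ := H938.Pw.Avg.exists_prd_of_lt (g := g) hcol hcol he he (by
    have h1 := Finset.sum_le_sum hterm
    rw [← Finset.mul_sum, ← Int.cast_sum, hsq1] at h1
    have h2 : (1 : ℝ) ≤ (Nat.card (centralizer ({g} : Set MG)) : ℝ) := by exact_mod_cast Nat.card_pos
    have h3 : (Nat.card (centralizer ({g} : Set MG)) : ℝ) ≤ 860000000000000000 := by exact_mod_cast hg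
    rw [hW1]
    refine lt_of_le_of_lt (mul_le_mul h1 (sub_le_sub_right h3 1) (by linarith) (by positivity)) ?_
    norm_num)
  have hord : ∀ {c : MG}, c ∈ (P : Subgroup MG) → c ≠ 1 → orderOf c = 59 := by
    intro c hc hc1
    have h1 : orderOf c ∣ 59 := ((P : Subgroup MG).orderOf_dvd_natCard hc).trans (dvd_of_eq hP)
    rcases (Nat.dvd_prime (by norm_num)).1 h1 with h | h
    · exact absurd (orderOf_eq_one_iff.1 h) hc1
    · exact h
  refine ⟨_, _, huv, ?_, ?_⟩
  · rw [← hord ha ha1]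
    exact orderOf_injective (MulAut.conj u).toMonoidHom (MulAut.conj u).injective a
  · rw [← hord hb hb1]
    exact orderOf_injective (MulAut.conj v).toMonoidHom (MulAut.conj v).injective b

end Cfsg.Agent.H909.PwM.Avg59
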