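import Cfsg.Agent.H909.PwM.Three
import Cfsg.Agent.H909.PwM.Chart
import Cfsg.Agent.H909.PwM.FrTwo
import Cfsg.Agent.H979.Ore.BoundZ
import Cfsg.Agent.LThreeM.FiRow

/-!
# The Monster: products of two elements of order prime to 6 (helper909)

* `pr_Q` : the elements of the group `2^(1+24)`;
* `pr_three` : the elements of order 3 which commute with an involution;
* `inQ_or_z` : an element with a `2B`-involution among its powers is in a conjugate of `2^(1+24)` or its centralizer
  has order at most `26489012826931200`.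
-/

set_option autoImplicit false

namespace Cfsg.Agent.H909.PwM.Base

open Cfsg Subgroup
open Cfsg.Agent.MonsterU Cfsg.Agent.MonsterU.Lam2
open Cfsg.Agent.BpSpor.MBigModel (MG zz pi chart finite simple zz_sq)
open Cfsg.Agent.LThreeMB (fr)
open Cfsg.Spor (Co1)
open Cfsg.Agent.H78.Pw (Pr)

/-- the bound -/
abbrev KK : ℕ := 26489012826931200

theorem fix_of_thirteen {a : Co1} (ha : orderOf a = 13) (v : L2) (hv : a • v = v) : v = 0 := by
  have h1 := BpSpor.MBigCo.fr_thirteen ha
  unfold fr at h1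
  have h2 := (Nat.card_eq_one_iff_unique.1 h1).1
  have h3 : (⟨v, hv⟩ : {v : L2 // a • v = v}) = ⟨0, smul_zero a⟩ := Subsingleton.elim _ _
  exact congrArg Subtype.val h3

theorem exists_thirteen : ∃ p : Co1, orderOf p = 13 := by
  have := BpSpor.MBigCo.finite_co1
  have : Fact (Nat.Prime 13) := ⟨by norm_num⟩
  exact exists_prime_orderOf_dvd_card' 13 (by rw [BpSpor.MBigCo.card_co1]; norm_num)

theorem pr_ne {q : MG} (hq : q ∈ (Cfsg.Agent.MonsterX.KDone.K.ι).range) (hne : q ≠ zz) : Pr 6 q := by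
  obtain ⟨p, hp⟩ := exists_thirteen
  exact pr_of_mem chart (by norm_num) (fix_of_thirteen hp) (by rw [hp]; decide) hq hne

/-- **The elements of `2^(1+24)`.** -/
theorem pr_Q {q : MG} (hq : q ∈ (Cfsg.Agent.MonsterX.KDone.K.ι).range) : Pr 6 q := by
  have hfin := finite
  have hs := simple
  by_cases h : q = zz
  · obtain ⟨g, hin, hne, -⟩ := Fused.exists_type_four chart
    rw [h]
    exact (pr_ne hin hne).of_conj
  · exact pr_ne hq h

theorem pr_z : Pr 6 zz := pr_Q chart.large.z_mem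

/-- `g` is in a conjugate of `2^(1+24)` -/
def InQ (g : MG) : Prop := ∃ k : MG, k * g * k⁻¹ ∈ (Cfsg.Agent.MonsterX.KDone.K.ι).range

theorem InQ.pr {g : MG} (h : InQ g) : Pr 6 g := by
  obtain ⟨k, hk⟩ := h
  exact (pr_Q hk).of_conj

theorem InQ.pow_four {g : MG} (h : InQ g) : g ^ 4 = 1 := by
  obtain ⟨k, hk⟩ := h
  have h1 := Cfsg.Agent.MFive.pow_four chart hk
  rw [conj_pow, mul_inv_eq_one] at h1
  exact mul_eq_left.1 h1

theorem InQ.of_conj {g k : MG} (h : InQ (k * g * k⁻¹)) : InQ g := by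
  obtain ⟨l, hl⟩ := h
  refine ⟨l * k, ?_⟩
  rwa [show l * k * g * (l * k)⁻¹ = l * (k * g * k⁻¹) * l⁻¹ by group]

theorem InQ.of_mem {g : MG} (h : g ∈ (Cfsg.Agent.MonsterX.KDone.K.ι).range) : InQ g :=
  ⟨1, by rwa [one_mul, inv_one, mul_one]⟩

/-- an element of order 3 of the centralizer of `z` -/
theorem pr_three_z {c : Subgroup.centralizer ({zz} : Set MG)} (hc : orderOf (c : MG) = 3) : Pr 6 (c : MG) := by
  have hc' : orderOf c = 3 := by rw [← hc, Subgroup.orderOf_coe]
  have hp : orderOf (pi c) = 3 := MFive.orderOf_pi chart Nat.prime_three (by decide) hc'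
  obtain ⟨a, b, ha, hb, e⟩ := three hp
  refine pr_of_pi chart (by norm_num) ?_ e (fix_of_thirteen ha) (fix_of_thirteen hb) (by rw [ha]; decide)
    (by rw [hb]; decide)
  intro h1
  rw [h1, orderOf_one] at hp
  norm_num at hp

/-- **The elements of order 3 which commute with an involution.** -/
theorem pr_three {x v : MG} (hx : orderOf x = 3) (hv : v * v = 1) (hv1 : v ≠ 1) (hc : x * v = v * x) : Pr 6 x := by
  have hfin := finite
  obtain ⟨g, hg⟩ := LThreeM.FiRow.exists_z_of_comm (by rw [← hx, pow_orderOf_eq_one]) hv hv1 hc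
  have hy : g⁻¹ * x * g⁻¹⁻¹ ∈ Subgroup.centralizer ({zz} : Set MG) := by
    rw [Subgroup.mem_centralizer_singleton_iff, inv_inv]
    calc g⁻¹ * x * g * zz = g⁻¹ * (x * (g * zz * g⁻¹)) * g := by group
      _ = g⁻¹ * ((g * zz * g⁻¹) * x) * g := by rw [hg]
      _ = zz * (g⁻¹ * x * g) := by group
  have h3 : orderOf (g⁻¹ * x * g⁻¹⁻¹) = 3 := by
    rw [← hx, ← MulAut.conj_apply, MulEquiv.orderOf_eq]
  exact (pr_three_z (c := ⟨_, hy⟩) h3).of_conj

/-- an element of order 3 with a centralizer of even order -/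
theorem pr_three_of_even {x : MG} (hx : orderOf x = 3)
    (he : ¬ Odd (Nat.card ↥(Subgroup.centralizer ({x} : Set MG)))) : Pr 6 x := by
  have hfin := finite
  have h2 : 2 ∣ Nat.card ↥(Subgroup.centralizer ({x} : Set MG)) := by
    rw [Nat.not_odd_iff_even] at he
    exact he.two_dvd
  have : Fact (Nat.Prime 2) := ⟨Nat.prime_two⟩
  obtain ⟨v, hv⟩ := exists_prime_orderOf_dvd_card' 2 h2
  have hv' : orderOf (v : MG) = 2 := by rw [Subgroup.orderOf_coe, hv]
  refine pr_three hx (v := v) ?_ ?_ ?_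
  · rw [← pow_two, ← hv', pow_orderOf_eq_one]
  · intro h1
    rw [h1, orderOf_one] at hv'
    norm_num at hv'
  · exact (Subgroup.mem_centralizer_singleton_iff.1 v.2).symm

/-- **The elements with `z` among their powers.** -/
theorem inQ_or_z' {g : MG} (hz : zz ∈ Subgroup.zpowers g) :
    InQ g ∨ Nat.card ↥(Subgroup.centralizer ({g} : Set MG)) ≤ KK := by
  have hfin := finite
  have hc : g ∈ Subgroup.centralizer ({zz} : Set MG) := by
    rw [Subgroup.mem_centralizer_singleton_iff]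
    obtain ⟨k, hk⟩ := hz
    have hk' : g ^ k = zz := hk
    rw [← hk']
    exact ((Commute.refl g).zpow_right k).eq
  by_cases h1 : pi ⟨g, hc⟩ = 1
  · exact Or.inl (InQ.of_mem ((chart.pi_eq_one ⟨g, hc⟩).1 h1))
  · exact Or.inr (Cfsg.Agent.H979.Ore.BoundZ.card_cent_le' (N := KK) (by norm_num) (fun x hx => FrTwo.bd_two hx)
      ⟨g, hc⟩ hz h1)

theorem card_cent_conj (g x : MG) : Nat.card ↥(Subgroup.centralizer ({g * x * g⁻¹} : Set MG)) =
    Nat.card ↥(Subgroup.centralizer ({x} : Set MG)) := Cfsg.Agent.BpSpor.card_cent_of_conj (rfl : g * x * g⁻¹ = _)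

theorem zpowers_conj {G : Type*} [Group G] {g x : G} (h : x ∈ Subgroup.zpowers g) (k : G) :
    k * x * k⁻¹ ∈ Subgroup.zpowers (k * g * k⁻¹) := by
  obtain ⟨n, hn⟩ := h
  exact ⟨n, by rw [← hn]; exact conj_zpow⟩

/-- **The elements with a conjugate of `z` among their powers.** -/
theorem inQ_or_z {g v k : MG} (hv : v ∈ Subgroup.zpowers g) (hk : k * zz * k⁻¹ = v) :
    InQ g ∨ Nat.card ↥(Subgroup.centralizer ({g} : Set MG)) ≤ KK := by
  have h1 : zz ∈ Subgroup.zpowers (k⁻¹ * g * k⁻¹⁻¹) := by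
    have h2 := zpowers_conj hv k⁻¹
    rwa [← hk, show k⁻¹ * (k * zz * k⁻¹) * k⁻¹⁻¹ = zz by group] at h2
  rcases inQ_or_z' h1 with h2 | h2
  · exact Or.inl h2.of_conj
  · rw [card_cent_conj] at h2
    exact Or.inr h2

end Cfsg.Agent.H909.PwM.Base
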