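import Cfsg.Agent.H713.Spor.B

/-!
# Elements with square the central involution of a double cover of the Baby Monster (helper909)

* `exists_pair` : `b * b = τ` implies `b` or `b⁻¹` is a product `w w'` of two lifts of transpositions, and the conjugates
  of `w` under `C(b)` are `w`, `w τ`, `w'`, `w' τ`;
* `card_le` : `|C(b)| ≤ 4 |C(w) ∩ C(w')|`;
* `card_eq` : `2 |C(q w) ∩ C(q w')| = 4 |C(w) ∩ C(w')|`.
-/

set_option autoImplicit false
set_option maxRecDepth 100000
set_option linter.unusedSectionVars false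

namespace Cfsg.Agent.H909.PwM.Pair

open Subgroup Cfsg Cfsg.Agent.R01.Lifts Cfsg.Agent.MonsterN Cfsg.Agent.MonsterN.Lit
open Cfsg.Agent.BabyComp Cfsg.Agent.BabyComp.Main Cfsg.Agent.BabyComp.BaseTwo
open Cfsg.Agent.H713.Spor

section

variable {B X E : Type*} [Group B] [Group X] [Group E] [Finite B] [Finite X] {q : B →* X} {τ : B} {R : Set E}
variable {y : ℕ → B} {h : Pre y} {π : KK y →* E}

/-- **Square roots of the central involution.** -/
theorem exists_pair {F : Type*} [Field F] [Fintype F] {hF : Fintype.card F = 2 ^ 2}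
    (hR : Cfsg.Agent.BabyU.RootCfg.RootFacts hF R) (hX : Cfsg.Agent.BabyU.Key.Extra hF R)
    (Rt : Cfsg.Agent.BabyU.Lab.Roots E R)
    (hq : Ext q τ) (h10 : y 10 = τ) (D : KD h R π) (big : KEq.Big B τ (y 5)) {M₁ : Subgroup X}
    (Bs : Base2 (q (y 5)) M₁) {b : B} (hbb : b * b = τ) :
    ∃ w w' : B, IsConj (y 5) w ∧ IsConj (y 5) w' ∧ (w * w' = b ∨ w * w' = b⁻¹) ∧
      ∀ x : B, x * b = b * x → x * w * x⁻¹ = w ∨ x * w * x⁻¹ = w * τ ∨ x * w * x⁻¹ = w' ∨ x * w * x⁻¹ = w' * τ := by
  have huu : q b * q b = 1 := by rw [← map_mul, hbb, hq.mapz]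
  have hu1 : q b ≠ 1 := by
    intro e
    rcases (hq.ker b).1 e with rfl | rfl
    · exact hq.zne (by rw [← hbb, one_mul])
    · exact hq.zne (by rw [← hbb, hq.zz])
  have hM := BaseTwo.Base.eq_map hq h10 big Bs.toBase
  -- `u` has no conjugate in `M₁`
  have hno : ∀ g : X, g⁻¹ * q b * g ∉ M₁ := by
    intro g hg
    obtain ⟨c, rfl⟩ := hq.surj g
    obtain ⟨k, hk, hqk⟩ := M_le hq h10 big Bs.toBase _ hg
    have hkk : k * k = 1 := by
      refine lift_sq hR hX Rt hq h10 D hk ?_
      rw [hqk]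
      calc (q c)⁻¹ * q b * q c * ((q c)⁻¹ * q b * q c) = (q c)⁻¹ * (q b * q b) * q c := by group
        _ = 1 := by rw [huu]; group
    have h1 : q k = q (c⁻¹ * b * c) := by rw [hqk, map_mul, map_mul, map_inv]
    have h2 : k * k = τ := by
      have h3 : c⁻¹ * b * c * (c⁻¹ * b * c) = τ := by
        calc c⁻¹ * b * c * (c⁻¹ * b * c) = c⁻¹ * (b * b) * c := by group
          _ = c⁻¹ * (τ * c) := by rw [hbb, mul_assoc]
          _ = c⁻¹ * (c * τ) := by rw [hq.comm]
          _ = τ := by group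
      rcases hq.map_eq.1 h1 with h4 | h4
      · rw [h4, h3]
      · rw [h4]
        calc c⁻¹ * b * c * τ * (c⁻¹ * b * c * τ) = c⁻¹ * b * c * (τ * (c⁻¹ * b * c)) * τ := by group
          _ = c⁻¹ * b * c * (c⁻¹ * b * c * τ) * τ := by rw [hq.comm (c⁻¹ * b * c)]
          _ = (c⁻¹ * b * c * (c⁻¹ * b * c)) * (τ * τ) := by group
          _ = τ := by rw [h3, hq.zz, mul_one]
    rw [hkk] at h2
    exact hq.zne h2.symm
  rcases Bs.classes (q b) huu hu1 with ⟨g, hg⟩ | ⟨d, hd', hc, hud⟩
  · exact absurd hg (hno g)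
  · obtain ⟨g, hg⟩ := isConj_iff.1 hd'
    obtain ⟨c, rfl⟩ := hq.surj g
    obtain ⟨g', hg'⟩ := isConj_iff.1 hud
    obtain ⟨c', rfl⟩ := hq.surj g'
    set t := q (y 5) with ht
    have htt : t * t = 1 := by rw [ht, ← map_mul, h.sq 5 (by norm_num) (by norm_num), map_one]
    have htM : t ∈ M₁ := by rw [hM]; exact ⟨y 5, h.five_mem, rfl⟩
    have hdd : d * d = 1 := by
      rw [← hg]
      calc q c * t * (q c)⁻¹ * (q c * t * (q c)⁻¹) = q c * (t * t) * (q c)⁻¹ := by group
        _ = 1 := by rw [htt]; group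
    set u' : X := (q c)⁻¹ * q b * q c with hu'
    have hdt : (q c)⁻¹ * d * q c = t := by rw [← hg]; group
    have hu't : u' * t = t * u' := by
      calc u' * t = (q c)⁻¹ * (q b * d) * q c := by rw [← hdt, hu']; group
        _ = (q c)⁻¹ * (d * q b) * q c := by rw [hc]
        _ = t * u' := by rw [← hdt, hu']; group
    -- the transposition `d' = t u'`
    have hd'T : IsConj t (t * u') := by
      refine hud.trans (isConj_iff.2 ⟨(q c)⁻¹, ?_⟩)
      rw [← hu't, inv_inv, ← hdt, hu']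
      group
    have htd' : t * (t * u') = u' := by rw [← mul_assoc, htt, one_mul]
    have hd'M : t * u' ∉ M₁ := by
      intro h1
      have h2 := M₁.mul_mem htM h1
      rw [htd'] at h2
      exact hno (q c) h2
    -- uniqueness
    have huniq : ∀ e : X, IsConj t e → e * q b = q b * e → IsConj t (e * q b) → e = d ∨ e = q b * d := by
      intro e he heu heu'
      have hcj : ∀ x : X, IsConj t x → IsConj t ((q c)⁻¹ * x * q c) := fun x hx =>
        hx.trans (isConj_iff.2 ⟨(q c)⁻¹, by rw [inv_inv]⟩)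
      have h1 := Bs.uniq (t * u') ((q c)⁻¹ * e * q c) hd'T (by rw [mul_assoc, hu't]) hd'M (hcj e he) (by
          rw [htd', hu']
          calc (q c)⁻¹ * e * q c * ((q c)⁻¹ * q b * q c) = (q c)⁻¹ * (e * q b) * q c := by group
            _ = (q c)⁻¹ * (q b * e) * q c := by rw [heu]
            _ = _ := by group) (by
          rw [htd', hu']
          have h2 : (q c)⁻¹ * e * q c * ((q c)⁻¹ * q b * q c) = (q c)⁻¹ * (e * q b) * q c := by group
          rw [h2]
          exact hcj _ heu')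
      rcases h1 with h1 | h1
      · left
        rw [← hg, ← h1]; group
      · right
        have h2 : e = q c * (t * u') * (q c)⁻¹ := by rw [← h1]; group
        rw [h2, ← hu't, hu', ← hg]
        group
    refine ⟨c * y 5 * c⁻¹, c' * y 5 * c'⁻¹, isConj_iff.2 ⟨c, rfl⟩, isConj_iff.2 ⟨c', rfl⟩, ?_, ?_⟩
    · have h1 : q (c * y 5 * c⁻¹ * (c' * y 5 * c'⁻¹)) = q b := by
        rw [map_mul, map_mul, map_mul, map_inv, map_mul, map_mul, map_inv, ← ht, hg, hg', ← mul_assoc, ← hc, mul_assoc,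
          hdd, mul_one]
      rcases hq.map_eq.1 h1 with h2 | h2
      · exact Or.inl h2
      · right
        rw [h2, eq_inv_iff_mul_eq_one, mul_assoc, ← hq.comm b, ← mul_assoc, hbb, hq.zz]
    · intro x hx
      have h1 : q x * q b = q b * q x := by rw [← map_mul, hx, map_mul]
      have h2 : q (x * (c * y 5 * c⁻¹) * x⁻¹) = q x * d * (q x)⁻¹ := by
        rw [map_mul, map_mul, map_inv, map_mul, map_mul, map_inv, ← ht, hg]
      have h3 : q x * d * (q x)⁻¹ * q b = q x * (d * q b) * (q x)⁻¹ := by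
        calc q x * d * (q x)⁻¹ * q b = q x * d * ((q x)⁻¹ * (q b * q x)) * (q x)⁻¹ := by group
          _ = q x * d * ((q x)⁻¹ * (q x * q b)) * (q x)⁻¹ := by rw [h1]
          _ = _ := by group
      have h4 := huniq (q x * d * (q x)⁻¹) (hd'.trans (isConj_iff.2 ⟨q x, rfl⟩)) (by
        rw [h3]
        calc q x * (d * q b) * (q x)⁻¹ = (q x * q b) * d * (q x)⁻¹ := by rw [← hc]; group
          _ = (q b * q x) * d * (q x)⁻¹ := by rw [h1]
          _ = _ := by group) (by
        rw [h3, ← hc]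
        exact hud.trans (isConj_iff.2 ⟨q x, rfl⟩))
      rcases h4 with h4 | h4
      · have h5 : q (x * (c * y 5 * c⁻¹) * x⁻¹) = q (c * y 5 * c⁻¹) := by
          rw [h2, h4, map_mul, map_mul, map_inv, ← ht, hg]
        rcases hq.map_eq.1 h5 with h6 | h6
        · exact Or.inl h6
        · exact Or.inr (Or.inl h6)
      · have h5 : q (x * (c * y 5 * c⁻¹) * x⁻¹) = q (c' * y 5 * c'⁻¹) := by
          rw [h2, h4, map_mul, map_mul, map_inv, ← ht, hg']
        rcases hq.map_eq.1 h5 with h6 | h6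
        · exact Or.inr (Or.inr (Or.inl h6))
        · exact Or.inr (Or.inr (Or.inr h6))

end

/-! ### Counting -/

/-- orbits -/
theorem card_le_mul {G : Type*} [Group G] [Finite G] (H : Subgroup G) (w : G) (s : Finset G)
    (hs : ∀ x ∈ H, x * w * x⁻¹ ∈ s) :
    Nat.card ↥H ≤ s.card * Nat.card ↥(H ⊓ centralizer ({w} : Set G) : Subgroup G) := by
  rw [Subgroup.card_eq_card_quotient_mul_card_subgroup ((centralizer ({w} : Set G)).subgroupOf H)]
  have h1 : Nat.card ↥((centralizer ({w} : Set G)).subgroupOf H) =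
      Nat.card ↥(H ⊓ centralizer ({w} : Set G) : Subgroup G) := by
    refine Nat.card_congr ⟨fun x => ⟨((x : H) : G), (x : H).2, x.2⟩, fun x => ⟨⟨(x : G), x.2.1⟩, x.2.2⟩, fun _ => rfl,
      fun _ => rfl⟩
  rw [h1]
  apply Nat.mul_le_mul_right
  have h2 : ∀ x x' : H, x⁻¹ * x' ∈ (centralizer ({w} : Set G)).subgroupOf H ↔ (x : G) * w * (x : G)⁻¹ = x' * w * (x' : G)⁻¹ := by
    intro x x'
    rw [Subgroup.mem_subgroupOf, mem_centralizer_singleton_iff]
    show (x : G)⁻¹ * x' * w = w * ((x : G)⁻¹ * x') ↔ _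
    constructor
    · intro e
      calc (x : G) * w * (x : G)⁻¹ = x * (w * ((x : G)⁻¹ * x')) * (x' : G)⁻¹ := by group
        _ = x * ((x : G)⁻¹ * x' * w) * (x' : G)⁻¹ := by rw [e]
        _ = _ := by group
    · intro e
      calc (x : G)⁻¹ * x' * w = (x : G)⁻¹ * (x' * w * (x' : G)⁻¹) * x' := by group
        _ = (x : G)⁻¹ * (x * w * (x : G)⁻¹) * x' := by rw [e]
        _ = _ := by group
  let f : ↥H ⧸ (centralizer ({w} : Set G)).subgroupOf H → ↥(s : Set G) := fun c =>
    Quotient.liftOn' c (fun x : H => (⟨(x : G) * w * (x : G)⁻¹, hs x x.2⟩ : ↥(s : Set G))) (by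
      intro a b hab
      exact Subtype.ext ((h2 a b).1 (QuotientGroup.leftRel_apply.1 hab)))
  have hf : Function.Injective f := by
    intro a b hab
    induction a using QuotientGroup.induction_on with | _ a =>
    induction b using QuotientGroup.induction_on with | _ b =>
    exact QuotientGroup.eq.2 ((h2 a b).2 (congrArg Subtype.val hab))
  have h3 := Nat.card_le_card_of_injective f hf
  rwa [Nat.card_coe_set_eq (s : Set G), Set.ncard_coe_finset] at h3

/-- an index two -/
theorem card_two {G : Type*} [Group G] [Finite G] {P : Subgroup G} {w τ : G} (hτ : τ * τ = 1) (hτ1 : τ ≠ 1)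
    (hc : ∀ x, x * τ = τ * x) (h1 : ∀ x ∈ P, x * w * x⁻¹ = w ∨ x * w * x⁻¹ = w * τ)
    (h2 : ∃ x ∈ P, x * w * x⁻¹ = w * τ) :
    Nat.card ↥P = 2 * Nat.card ↥(P ⊓ centralizer ({w} : Set G) : Subgroup G) := by
  have h3 : ((centralizer ({w} : Set G)).subgroupOf P).index = 2 := by
    rw [Subgroup.index_eq_two_iff]
    obtain ⟨a, ha, haw⟩ := h2
    have hne : w ≠ w * τ := fun e => hτ1 (by simpa using e.symm)
    refine ⟨⟨a, ha⟩, fun b => ?_⟩
    have h4 : ∀ x : P, x ∈ (centralizer ({w} : Set G)).subgroupOf P ↔ (x : G) * w * (x : G)⁻¹ = w := by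
      intro x
      rw [Subgroup.mem_subgroupOf, mem_centralizer_singleton_iff, mul_inv_eq_iff_eq_mul]
    have h5 : ((b * ⟨a, ha⟩ : P) : G) * w * ((b * ⟨a, ha⟩ : P) : G)⁻¹ = ((b : G) * w * (b : G)⁻¹) * τ := by
      show (b : G) * a * w * ((b : G) * a)⁻¹ = _
      calc (b : G) * a * w * ((b : G) * a)⁻¹ = b * (a * w * a⁻¹) * (b : G)⁻¹ := by group
        _ = b * w * (τ * (b : G)⁻¹) := by rw [haw]; group
        _ = b * w * ((b : G)⁻¹ * τ) := by rw [hc]
        _ = _ := by group
    rw [h4, h4, h5]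
    rcases h1 b b.2 with h6 | h6
    · rw [h6]
      exact Or.inr ⟨rfl, fun e => hne e.symm⟩
    · rw [h6, mul_assoc, hτ, mul_one]
      exact Or.inl ⟨rfl, fun e => hne e.symm⟩
  have h6 := Subgroup.card_mul_index ((centralizer ({w} : Set G)).subgroupOf P)
  rw [h3] at h6
  rw [← h6, mul_comm]
  congr 1
  exact Nat.card_congr ⟨fun x => ⟨((x : P) : G), (x : P).2, x.2⟩, fun x => ⟨⟨(x : G), x.2.1⟩, x.2.2⟩, fun _ => rfl,
      fun _ => rfl⟩

section

variable {B X : Type*} [Group B] [Group X] [Finite B] [Finite X] {q : B →* X} {τ : B}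

/-- the preimage of a subgroup -/
theorem card_comap (hq : Ext q τ) (H : Subgroup X) : Nat.card ↥(H.comap q) = 2 * Nat.card ↥H := by
  have h1 : Nat.card ↥q.ker = 2 := by
    have h2 : q.ker = zpowers τ := by
      ext x
      rw [MonoidHom.mem_ker, hq.ker]
      constructor
      · rintro (rfl | rfl)
        · exact one_mem _
        · exact mem_zpowers _
      · intro hx
        obtain ⟨k, rfl⟩ := hx
        rcases Int.even_or_odd' k with ⟨m, rfl | rfl⟩
        · left
          show τ ^ (2 * m) = 1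
          rw [zpow_mul, zpow_two, hq.zz, one_zpow]
        · right
          show τ ^ (2 * m + 1) = τ
          rw [zpow_add, zpow_mul, zpow_two, hq.zz, one_zpow, one_mul, zpow_one]
    rw [h2, Nat.card_zpowers]
    exact orderOf_eq_prime (by rw [pow_two, hq.zz]) hq.zne
  have h3 : Nat.card B = Nat.card X * 2 := by
    rw [Subgroup.card_eq_card_quotient_mul_card_subgroup q.ker, h1,
      Nat.card_congr (QuotientGroup.quotientKerEquivOfSurjective q hq.surj).toEquiv]
  have h4 := Subgroup.card_mul_index (H.comap q)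
  have h5 := Subgroup.card_mul_index H
  rw [Subgroup.index_comap_of_surjective H hq.surj, h3, ← h5] at h4
  have h6 : 0 < H.index := Nat.pos_of_ne_zero Subgroup.index_ne_zero_of_finite
  have h7 : Nat.card ↥(H.comap q) * H.index = 2 * Nat.card ↥H * H.index := by rw [h4]; ring
  exact Nat.eq_of_mul_eq_mul_right h6 h7

/-- **The centralizer of a pair.** -/
theorem card_eq (hq : Ext q τ) {w w' : B} (hw : w * w = 1) (hw' : w' * w' = 1) (hsq : (w * w') * (w * w') = τ) :
    Nat.card ↥(centralizer ({q w} : Set X) ⊓ centralizer ({q w'} : Set X) : Subgroup X) =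
      2 * Nat.card ↥(centralizer ({w} : Set B) ⊓ centralizer ({w'} : Set B) : Subgroup B) := by
  set P := (centralizer ({q w} : Set X) ⊓ centralizer ({q w'} : Set X)).comap q with hP
  have hmem : ∀ x : B, x ∈ P ↔ q x * q w = q w * q x ∧ q x * q w' = q w' * q x := by
    intro x
    rw [hP, mem_comap, mem_inf, mem_centralizer_singleton_iff, mem_centralizer_singleton_iff]
  have hc : ∀ x, x * τ = τ * x := fun x => hq.comm x
  have e1 : w' * w * w'⁻¹ = w * τ := by
    have hi : w'⁻¹ = w' := inv_eq_of_mul_eq_one_left hw'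
    rw [hi, ← hsq]
    calc w' * w * w' = (w * w) * (w' * w * w') := by rw [hw, one_mul]
      _ = _ := by group
  have e2 : w * w' * w⁻¹ = w' * τ := by
    have hi : w⁻¹ = w := inv_eq_of_mul_eq_one_left hw
    rw [hi, hc w', ← hsq]
    calc w * w' * w = w * w' * w * (w' * w') := by rw [hw', mul_one]
      _ = _ := by group
  have hcom : q w * q w' = q w' * q w := by
    have h1 := congrArg q e2
    rw [map_mul, map_mul, map_inv, map_mul, hq.mapz, mul_one] at h1
    rw [mul_inv_eq_iff_eq_mul] at h1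
    exact h1
  have hwP : w ∈ P := (hmem w).2 ⟨rfl, hcom⟩
  have hwP' : w' ∈ P := (hmem w').2 ⟨hcom.symm, rfl⟩
  have c1 := card_two (P := P) (w := w) hq.zz hq.zne hc (fun x hx => hq.conj_of_commute ((hmem x).1 hx).1)
    ⟨w', hwP', e1⟩
  have c2 := card_two (P := P ⊓ centralizer ({w} : Set B)) (w := w') hq.zz hq.zne hc
    (fun x hx => hq.conj_of_commute ((hmem x).1 hx.1).2) ⟨w, ⟨hwP, mem_centralizer_singleton_iff.2 rfl⟩, e2⟩
  have c3 := card_comap hq (centralizer ({q w} : Set X) ⊓ centralizer ({q w'} : Set X))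
  rw [← hP, c1, c2] at c3
  have c4 : P ⊓ centralizer ({w} : Set B) ⊓ centralizer ({w'} : Set B) =
      centralizer ({w} : Set B) ⊓ centralizer ({w'} : Set B) := by
    apply le_antisymm
    · exact fun x hx => ⟨hx.1.2, hx.2⟩
    · intro x hx
      refine ⟨⟨(hmem x).2 ⟨?_, ?_⟩, hx.1⟩, hx.2⟩
      · rw [← map_mul, mem_centralizer_singleton_iff.1 hx.1, map_mul]
      · rw [← map_mul, mem_centralizer_singleton_iff.1 hx.2, map_mul]
  rw [c4] at c3
  omega

end

end Cfsg.Agent.H909.PwM.Pair
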