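import Cfsg.Agent.H909.PwM.RowOf
import Cfsg.Agent.H562.OreM.ThreeOdd

/-!
# S2465, S2453: the row of the Monster (helper909)

* `pw_M` : products of two elements of order prime to 6 (`Pw`, S2465);
* `sq_M`, `cube_M` : products of two squares, products of two cubes (S2453).
-/

set_option autoImplicit false

namespace Cfsg.Agent.H909.PwM.Row

open Cfsg
open Cfsg.Agent.BpSpor.MBigModel (MG)
open Cfsg.Agent.H995.CopEngine (AllKnown)
open Cfsg.Agent.H78.Pw (Pw)

theorem pw_MG (hK : AllKnown.{0}) : Pw MG :=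
  RowOf.pw_of hK fun g hg hno =>
    (H562.OreM.ThreeOdd.three_odd_bound hK (H715.Mon.Grp.sThree (RowOf.base hK)) hg hno).trans (by norm_num)

/-- **S2465, the Monster.** -/
theorem pw_M (hK : AllKnown.{0}) {S : Type*} [Group S] (h : Spor.IsoM S) : Pw S := Asm.pw_of_iso (pw_MG hK) h

/-- **S2453, the Monster, squares.** -/
theorem sq_M (hK : AllKnown.{0}) {S : Type*} [Group S] (h : Spor.IsoM S) : H134.Sq.AllP 2 S :=
  (Asm.allP_of_pw (pw_M hK h)).1

/-- **S2453, the Monster, cubes.** -/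
theorem cube_M (hK : AllKnown.{0}) {S : Type*} [Group S] (h : Spor.IsoM S) : H134.Sq.AllP 3 S :=
  (Asm.allP_of_pw (pw_M hK h)).2

end Cfsg.Agent.H909.PwM.Row
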