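import Cfsg.Agent.H58.Mon.Fin
import Cfsg.Agent.H740.OreM.ThreeBd
import Cfsg.Agent.H606.OreM.Sieve
import Cfsg.Agent.H455.OreM.Loc
import Cfsg.Agent.OrdDiv.Table
import Cfsg.Agent.H909.PwM.Asm
import Cfsg.Agent.H909.PwM.Avg59

/-!
# S2465, S2453, the row of the Monster, up to the elements of order 3 commuting with no involution (helper909)
-/

set_option autoImplicit false

namespace Cfsg.Agent.H909.PwM.RowOf

open Cfsg
open Cfsg.Agent.BpSpor.MBigModel (MG)
open Cfsg.Agent.H995.CopEngine (AllKnown)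
open Cfsg.Agent.H78.Pw (Pr All Pw)
open Cfsg.Agent.H909.PwM.Base (KK)
open Cfsg.Agent.H909.PwM.Avg59 (KA)
open Subgroup (centralizer)

theorem base (hK : AllKnown.{0}) : H940.Eng.Base := ⟨OrdDiv.table, fun S _ _ h => hK S⟩

/-- a centralizer of a power -/
theorem card_cent_mem {g y : MG} (hy : y ∈ Subgroup.zpowers g) :
    Nat.card ↥(centralizer ({g} : Set MG)) ≤ Nat.card ↥(centralizer ({y} : Set MG)) := by
  have hfin := BpSpor.MBigModel.finite
  refine Subgroup.card_le_of_le fun x hx => Subgroup.mem_centralizer_singleton_iff.2 ?_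
  obtain ⟨n, rfl⟩ := hy
  exact ((show Commute x g from Subgroup.mem_centralizer_singleton_iff.1 hx).zpow_right n).eq

/-- **The row of the Monster, from the bound for the elements of order 3 commuting with no involution.** -/
theorem pw_of (hK : AllKnown.{0})
    (h3 : ∀ g : MG, orderOf g = 3 → (∀ v : MG, orderOf v = 2 → v * g ≠ g * v) →
      Nat.card ↥(centralizer ({g} : Set MG)) ≤ KA) : Pw MG := by
  have hfin := BpSpor.MBigModel.finite
  have B := base hK
  have L := H455.OreM.Deg19.loc B
  have hS := H715.Mon.Grp.sThree B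
  refine Asm.pw_MG (K := KA) (s := 59) (t := 59) (by norm_num) (fun {x q} hq hq5 hx => ?_) (fun g hg hg3 => ?_) h3
    (by norm_num) (by norm_num) (by norm_num) (by norm_num) (fun g hg => ?_) (Asm.not_sq (by norm_num))
    (Asm.not_sq (by norm_num))
  · exact (H58.MonFin.hB hK hS hq hq5 hx).trans (by norm_num)
  · rcases H740.OreM.ThreeBd.nine hg hg3 with h | ⟨y, hy, hy3, hno⟩
    · exact h.trans (by norm_num)
    · exact (card_cent_mem hy).trans (h3 y hy3 hno)
  · exact Avg59.avg L.c59 (fun χ hχ hnd => H606.OreM.deg_ge L χ hχ hnd) hg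

end Cfsg.Agent.H909.PwM.RowOf
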