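import Cfsg.Agent.LThreeCo1.Ranks
import Cfsg.Agent.BpSpor.MBigCo

/-!
# Elements of order three of `Co1` as products of two elements of order 13 (helper909)

`three` : every element of order 3 of `Co1` is a product of two elements of order 13 (which have no fixed points on
`Λ/2Λ`).  The matrices are generated.
-/

set_option autoImplicit false
set_option maxRecDepth 100000

namespace Cfsg.Agent.H909.PwM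

open Cfsg Cfsg.Agent.SporadicStructure.Co0Matrix Cfsg.Agent.CoOneType.CoEval
open Cfsg.Agent.LThreeMB Cfsg.Agent.LThreeMB.Fix
open Cfsg.Agent.LThreeCo1.Ev Cfsg.Agent.LThreeCo1.Class Cfsg.Agent.LThreeCo1.Rel Cfsg.Agent.LThreeCo1.AGrp
open Cfsg.Agent.LThreeCo1.Ranks
open Cfsg.Spor (Co1)

/-- the three matrices `A`, `A⁻¹`, `R` -/
def Ms (A R : List (List ℤ)) : ℕ → List (List ℤ)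
  | 0 => A
  | 1 => tr A
  | _ => R

/-- the word `(a⁻¹ c) ^ n` -/
def alt : ℕ → List ℕ
  | 0 => []
  | n + 1 => 1 :: 2 :: alt n

/-- the check -/
def chk (A R : List (List ℤ)) : Bool :=
  eqL (foldZ (Ms A R) (List.replicate 13 0) betaL) betaL && eqL (foldZ (Ms A R) (alt 13) betaL) betaL

theorem pow_of_chk {A R : List (List ℤ)} (okA : Ok A (tr A)) {c : Co0} (hc : Rep c R) (h : chk A R = true) :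
    mk okA ^ 13 = 1 ∧ ((mk okA)⁻¹ * c) ^ 13 = 1 := by
  rw [chk, Bool.and_eq_true] at h
  let e : ℕ → Co0 := fun i => match i with
    | 0 => mk okA
    | 1 => (mk okA)⁻¹
    | _ => c
  have hM : ∀ i, Rep (e i) (Ms A R i) := by
    intro i
    match i with
    | 0 => exact rep_mk okA
    | 1 => exact rep_inv okA
    | (n + 2) => exact hc
  have h1 : ((List.replicate 13 0).map e).prod = (([] : List ℕ).map e).prod := eq_of_eqB hM h.1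
  have h2 : ((alt 13).map e).prod = (([] : List ℕ).map e).prod := eq_of_eqB hM h.2
  have halt : ∀ n : ℕ, ((alt n).map e).prod = ((mk okA)⁻¹ * c) ^ n := by
    intro n
    induction n with
    | zero => rfl
    | succ n ih =>
      show ((e 1) :: (e 2) :: (alt n).map e).prod = _
      rw [List.prod_cons, List.prod_cons, ih, pow_succ', mul_assoc]
      rfl
  constructor
  · rw [List.map_replicate, List.prod_replicate] at h1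
    exact h1
  · rw [halt] at h2
    exact h2

theorem prod_of_chk {A R : List (List ℤ)} (okA : Ok A (tr A)) {c : Co0} (hc : Rep c R) (h : chk A R = true)
    (h3 : orderOf (QuotientGroup.mk c : Co1) = 3) : ∃ a b : Co1, orderOf a = 13 ∧ orderOf b = 13 ∧
      (QuotientGroup.mk c : Co1) = a * b := by
  obtain ⟨h1, h2⟩ := pow_of_chk okA hc h
  have hp : Fact (Nat.Prime 13) := ⟨by norm_num⟩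
  have hno : (QuotientGroup.mk c : Co1) ^ 13 ≠ 1 := by
    intro h4
    have h5 := orderOf_dvd_of_pow_eq_one h4
    rw [h3] at h5
    norm_num at h5
  have e1 : (QuotientGroup.mk (mk okA) : Co1) ^ 13 = 1 := by
    have : (QuotientGroup.mk (mk okA ^ 13) : Co1) = 1 := by rw [h1]; rfl
    exact this
  have e2 : (QuotientGroup.mk ((mk okA)⁻¹ * c) : Co1) ^ 13 = 1 := by
    have : (QuotientGroup.mk (((mk okA)⁻¹ * c) ^ 13) : Co1) = 1 := by rw [h2]; rfl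
    exact this
  have e3 : (QuotientGroup.mk c : Co1) = QuotientGroup.mk (mk okA) * QuotientGroup.mk ((mk okA)⁻¹ * c) := by
    have : (QuotientGroup.mk (mk okA * ((mk okA)⁻¹ * c)) : Co1) = QuotientGroup.mk c := by
      rw [mul_inv_cancel_left]
    exact this.symm
  refine ⟨_, _, orderOf_eq_prime e1 ?_, orderOf_eq_prime e2 ?_, e3⟩
  · intro h4
    apply hno
    rw [e3, h4, one_mul, e2]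
  · intro h4
    apply hno
    rw [e3, h4, mul_one, e1]

/-- an element of order 13 -/
def A0 : List (List ℤ) := [
  [0, -2, 0, 0, 0, 2, -4, 0, 4, 2, 2, 0, 0, 0, 0, 0, -2, 0, -2, 0, 2, -2, 0, 0],
  [0, -2, 0, 0, 0, -2, 0, 0, 0, 2, 2, 0, 0, 0, 0, 0, 2, 4, 2, 0, 2, 2, 4, 0],
  [0, 2, 0, 0, 0, 2, 0, 0, 0, 2, -2, 0, 0, 0, -4, 0, 2, 0, -2, -4, 2, 2, 0, 0],
  [4, -2, 0, 0, 0, -2, 0, 0, 0, 2, -2, 0, 0, 0, 0, 4, 2, 0, -2, 0, -2, -2, 0, 0],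
  [0, 2, 0, 0, -4, -2, 0, 0, 0, 2, -2, 0, 4, 0, 0, 0, -2, 0, 2, 0, 2, -2, 0, 0],
  [-2, 0, -2, -2, 2, 0, 2, 2, 2, 0, 0, 2, 2, 2, -2, 2, 0, 2, 0, 2, 0, 0, -2, -2],
  [-2, 0, 2, 2, 2, 0, -2, 2, -2, 0, 0, -2, 2, 2, 2, 2, 0, 2, 0, -2, 0, 0, -2, 2],
  [-4, -2, 0, 0, 0, -2, 0, 0, 0, 2, -2, 0, 0, 0, 0, -4, 2, 0, -2, 0, -2, -2, 0, 0],
  [0, -2, 0, -4, 0, -2, 0, 0, 0, -2, -2, -4, 0, 0, 0, 0, -2, 0, -2, 0, 2, 2, 0, 0],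
  [0, 2, -4, 0, 0, -2, 0, 0, 0, -2, 2, 0, 0, 0, 0, 0, 2, 0, -2, 0, 2, -2, 0, 4],
  [-2, 0, -2, 2, 2, 0, -2, -2, -2, 0, 0, -2, 2, -2, -2, 2, 0, -2, 0, 2, 0, 0, 2, -2],
  [2, 0, -2, 2, 2, 0, 2, 2, 2, 0, 0, -2, 2, 2, 2, -2, 0, -2, 0, -2, 0, 0, 2, -2],
  [-2, 0, -2, 2, -2, 0, 2, -2, 2, 0, 0, -2, -2, -2, 2, 2, 0, 2, 0, -2, 0, 0, -2, -2],
  [0, -2, 0, 0, -4, 2, 0, 0, 0, -2, 2, 0, 4, 0, 0, 0, 2, 0, -2, 0, -2, 2, 0, 0],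
  [-2, 0, 2, 2, -2, 0, 2, 2, 2, 0, 0, -2, -2, 2, -2, 2, 0, -2, 0, 2, 0, 0, 2, 2],
  [2, 0, -2, 2, -2, 0, -2, 2, -2, 0, 0, -2, -2, 2, -2, -2, 0, 2, 0, 2, 0, 0, -2, -2],
  [0, 2, 0, 0, 0, -2, -4, 0, 4, -2, -2, 0, 0, 0, 0, 0, 2, 0, 2, 0, -2, 2, 0, 0],
  [0, 2, 0, 0, 0, -2, 0, -4, 0, 2, 2, 0, 0, 4, 0, 0, -2, 0, -2, 0, -2, 2, 0, 0],
  [0, 2, 4, 0, 0, -2, 0, 0, 0, -2, 2, 0, 0, 0, 0, 0, 2, 0, -2, 0, 2, -2, 0, -4],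
  [-2, 0, -2, -2, -2, 0, -2, 2, -2, 0, 0, 2, -2, 2, 2, 2, 0, -2, 0, -2, 0, 0, 2, -2],
  [0, -2, 0, 4, 0, -2, 0, 0, 0, -2, -2, 4, 0, 0, 0, 0, -2, 0, -2, 0, 2, 2, 0, 0],
  [0, 2, 0, 0, 0, -2, 0, 4, 0, 2, 2, 0, 0, -4, 0, 0, -2, 0, -2, 0, -2, 2, 0, 0],
  [0, -2, 0, 0, 0, -2, 0, 0, 0, -2, 2, 0, 0, 0, -4, 0, -2, 0, 2, -4, -2, -2, 0, 0],
  [0, 2, 0, 0, 0, 2, 0, 0, 0, -2, -2, 0, 0, 0, 0, 0, -2, 4, -2, 0, -2, -2, 4, 0]]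

theorem okA0 : Ok A0 (tr A0) := Cfsg.Agent.CoOneType.CoFast.ok_of_okZ (by decide +kernel)

/-- an element of order 13 -/
def A6 : List (List ℤ) := [
  [0, 0, 0, 0, 0, 0, 2, 2, -2, -2, 2, 0, -4, -2, 0, 0, -2, 0, 2, 4, 0, 0, 0, 0],
  [0, -4, 0, 0, 0, 0, -2, -2, -2, -2, -2, 0, 0, 2, 0, 0, -2, -4, 2, 0, 0, 0, 0, 0],
  [0, 0, 0, -4, 0, -4, -2, 2, 2, -2, 2, 0, 0, 2, 0, 0, 2, 0, 2, 0, 0, 0, 0, 0],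
  [-2, 2, -2, -2, -2, 2, 0, 0, 0, 0, 0, -2, -2, 0, 2, -2, 0, -2, 0, -2, 2, 2, -2, 2],
  [0, -4, 0, 0, 0, 0, 2, 2, 2, 2, 2, 0, 0, -2, 0, 0, 2, -4, -2, 0, 0, 0, 0, 0],
  [0, 0, 0, 0, 0, 0, -2, -2, 2, 2, -2, 0, -4, 2, 0, 0, 2, 0, -2, 4, 0, 0, 0, 0],
  [2, 2, 2, 2, 2, -2, 0, 0, 0, 0, 0, -2, -2, 0, 2, 2, 0, -2, 0, -2, -2, 2, 2, 2],
  [0, 0, 0, 0, 0, 0, 2, -2, 2, 2, 2, 0, 0, 2, 0, 0, -2, 0, 2, 0, 4, 0, 4, 0],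
  [4, 0, -4, 0, 0, 0, -2, 2, 2, 2, -2, 0, 0, -2, 0, 0, -2, 0, 2, 0, 0, 0, 0, 0],
  [0, 0, 0, -4, 0, -4, 2, -2, -2, 2, -2, 0, 0, -2, 0, 0, -2, 0, -2, 0, 0, 0, 0, 0],
  [-2, 2, -2, 2, -2, -2, 0, 0, 0, 0, 0, -2, 2, 0, -2, -2, 0, -2, 0, 2, -2, 2, 2, -2],
  [0, 0, 0, 0, 0, 0, 2, 2, -2, 2, -2, -4, 0, 2, 0, 0, 2, 0, 2, 0, 0, -4, 0, 0],
  [0, 0, 0, 0, 0, 0, 2, 2, 2, -2, -2, 0, 0, 2, 4, 0, -2, 0, -2, 0, 0, 0, 0, -4],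
  [2, 2, 2, 2, -2, -2, 0, 0, 0, 0, 0, 2, 2, 0, 2, -2, 0, -2, 0, 2, 2, -2, -2, 2],
  [0, 0, 0, 0, 0, 0, -2, -2, 2, -2, 2, -4, 0, -2, 0, 0, -2, 0, -2, 0, 0, -4, 0, 0],
  [4, 0, -4, 0, 0, 0, 2, -2, -2, -2, 2, 0, 0, 2, 0, 0, 2, 0, -2, 0, 0, 0, 0, 0],
  [2, 2, 2, -2, -2, 2, 0, 0, 0, 0, 0, 2, -2, 0, -2, -2, 0, -2, 0, -2, -2, -2, 2, -2],
  [2, 2, 2, -2, 2, 2, 0, 0, 0, 0, 0, -2, 2, 0, -2, 2, 0, -2, 0, 2, 2, 2, -2, -2],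
  [0, 0, 0, 0, 4, 0, -2, 2, -2, 2, 2, 0, 0, 2, 0, -4, -2, 0, -2, 0, 0, 0, 0, 0],
  [0, 0, 0, 0, 4, 0, 2, -2, 2, -2, -2, 0, 0, -2, 0, -4, 2, 0, 2, 0, 0, 0, 0, 0],
  [-2, 2, -2, -2, 2, 2, 0, 0, 0, 0, 0, 2, 2, 0, 2, 2, 0, -2, 0, 2, -2, -2, 2, 2],
  [-2, 2, -2, 2, 2, -2, 0, 0, 0, 0, 0, 2, -2, 0, -2, 2, 0, -2, 0, -2, 2, -2, -2, -2],
  [0, 0, 0, 0, 0, 0, -2, -2, -2, 2, 2, 0, 0, -2, 4, 0, 2, 0, 2, 0, 0, 0, 0, -4],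
  [0, 0, 0, 0, 0, 0, -2, 2, -2, -2, -2, 0, 0, -2, 0, 0, 2, 0, -2, 0, 4, 0, 4, 0]]

theorem okA6 : Ok A6 (tr A6) := Cfsg.Agent.CoOneType.CoFast.ok_of_okZ (by decide +kernel)

/-- an element of order 13 -/
def A8 : List (List ℤ) := [
  [0, -2, -2, -4, 0, -2, 0, 0, 0, 0, 0, -2, 0, 4, 0, -2, 0, 0, 0, 2, 0, 0, 2, -2],
  [-2, 0, 0, 2, -2, 0, 2, -2, -2, -2, 2, 0, 2, 2, -2, 0, 2, -2, 2, 0, 2, -2, 0, 0],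
  [0, -2, -2, 0, -4, -2, 0, 0, 4, 0, 0, -2, 0, 0, 0, 2, 0, 0, 0, -2, 0, 0, -2, 2],
  [-2, 0, 0, 2, -2, 0, -2, -2, -2, 2, -2, 0, -2, 2, 2, 0, 2, 2, -2, 0, 2, 2, 0, 0],
  [0, 2, 2, -4, 0, 2, 0, 0, 0, 0, 0, 2, 0, 4, 0, 2, 0, 0, 0, -2, 0, 0, -2, 2],
  [-2, 0, 0, 2, 2, 0, 2, -2, 2, -2, -2, 0, 2, 2, 2, 0, -2, 2, -2, 0, -2, -2, 0, 0],
  [-4, 2, -2, 0, 0, 2, 0, 4, 0, 0, 0, -2, 0, 0, 0, -2, 0, 0, 0, -2, 0, 0, -2, -2],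
  [0, 2, 2, 0, -4, 2, 0, 0, 4, 0, 0, 2, 0, 0, 0, -2, 0, 0, 0, 2, 0, 0, 2, -2],
  [0, -2, -2, 0, 0, 2, 0, 0, 0, 0, -4, 2, 0, 0, 0, -2, 0, -4, 0, -2, 0, 0, 2, 2],
  [0, -2, 2, 0, 0, -2, 0, 0, 0, 0, 0, 2, 0, 0, 0, -2, 4, 0, 0, -2, -4, 0, -2, -2],
  [-2, 0, 0, -2, 2, 0, -2, -2, 2, -2, 2, 0, 2, -2, 2, 0, 2, -2, -2, 0, 2, 2, 0, 0],
  [0, 2, 2, 0, 0, -2, 0, 0, 0, -4, 0, -2, -4, 0, 0, -2, 0, 0, 0, -2, 0, 0, 2, 2],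
  [-2, 0, 0, -2, 2, 0, 2, -2, 2, 2, -2, 0, -2, -2, -2, 0, 2, 2, 2, 0, 2, -2, 0, 0],
  [-2, 0, 0, -2, -2, 0, -2, -2, -2, -2, -2, 0, 2, -2, -2, 0, -2, 2, 2, 0, -2, 2, 0, 0],
  [2, 0, 0, 2, 2, 0, -2, 2, 2, -2, -2, 0, 2, 2, -2, 0, 2, 2, 2, 0, 2, 2, 0, 0],
  [0, -2, 2, 0, 0, -2, 0, 0, 0, 0, 0, 2, 0, 0, 0, -2, -4, 0, 0, -2, 4, 0, -2, -2],
  [4, 2, -2, 0, 0, 2, 0, -4, 0, 0, 0, -2, 0, 0, 0, -2, 0, 0, 0, -2, 0, 0, -2, -2],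
  [0, 2, -2, 0, 0, -2, -4, 0, 0, 0, 0, 2, 0, 0, 0, 2, 0, 0, 0, -2, 0, -4, 2, -2],
  [0, 2, -2, 0, 0, -2, 0, 0, 0, 0, 0, 2, 0, 0, -4, -2, 0, 0, -4, 2, 0, 0, -2, 2],
  [0, -2, -2, 0, 0, 2, 0, 0, 0, 0, 4, 2, 0, 0, 0, -2, 0, 4, 0, -2, 0, 0, 2, 2],
  [0, -2, 2, 0, 0, 2, -4, 0, 0, 0, 0, -2, 0, 0, 0, -2, 0, 0, 0, 2, 0, -4, -2, 2],
  [2, 0, 0, -2, -2, 0, 2, 2, -2, -2, -2, 0, 2, -2, 2, 0, 2, 2, -2, 0, 2, -2, 0, 0],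
  [0, 2, 2, 0, 0, -2, 0, 0, 0, 4, 0, -2, 4, 0, 0, -2, 0, 0, 0, -2, 0, 0, 2, 2],
  [0, -2, 2, 0, 0, 2, 0, 0, 0, 0, 0, -2, 0, 0, -4, 2, 0, 0, -4, -2, 0, 0, 2, -2]]

theorem okA8 : Ok A8 (tr A8) := Cfsg.Agent.CoOneType.CoFast.ok_of_okZ (by decide +kernel)

/-- an element of order 13 -/
def A12 : List (List ℤ) := [
  [0, 0, 0, 0, 0, 0, 0, 0, 4, 4, 0, 0, 0, 4, 0, 0, 0, 0, 0, 0, 0, 0, 4, 0],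
  [0, 0, 0, 0, 0, 0, 0, 4, 0, 0, 0, 0, -4, 0, 0, 0, 0, 0, 0, 4, -4, 0, 0, 0],
  [0, 0, -4, 0, 0, 0, 0, 0, 0, 0, -4, 4, 0, 0, 0, 0, 0, 0, 0, 0, 0, 0, 0, 4],
  [4, 0, 0, 0, 4, 4, 4, 0, 0, 0, 0, 0, 0, 0, 0, 0, 0, 0, 0, 0, 0, 0, 0, 0],
  [-4, 0, 0, 0, 4, 4, -4, 0, 0, 0, 0, 0, 0, 0, 0, 0, 0, 0, 0, 0, 0, 0, 0, 0],
  [0, 4, 0, -4, 0, 0, 0, 0, 0, 0, 0, 0, 0, 0, 0, 0, -4, 0, 0, 0, 0, 4, 0, 0],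
  [0, 0, 0, 0, 0, 0, 0, -4, 0, 0, 0, 0, 4, 0, 0, 0, 0, 0, 0, 4, -4, 0, 0, 0],
  [0, 0, 0, 0, 0, 0, 0, 0, 0, 0, 0, 0, 0, 0, 4, -4, 0, -4, 4, 0, 0, 0, 0, 0],
  [0, 0, 0, 0, 0, 0, 0, 0, 0, 0, 0, 0, 0, 0, 4, 4, 0, -4, -4, 0, 0, 0, 0, 0],
  [0, 0, 4, 0, 0, 0, 0, 0, 0, 0, -4, 4, 0, 0, 0, 0, 0, 0, 0, 0, 0, 0, 0, -4],
  [4, 0, 0, 0, 4, -4, -4, 0, 0, 0, 0, 0, 0, 0, 0, 0, 0, 0, 0, 0, 0, 0, 0, 0],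
  [-4, 0, 0, 0, 4, -4, 4, 0, 0, 0, 0, 0, 0, 0, 0, 0, 0, 0, 0, 0, 0, 0, 0, 0],
  [0, 4, 0, 4, 0, 0, 0, 0, 0, 0, 0, 0, 0, 0, 0, 0, 4, 0, 0, 0, 0, 4, 0, 0],
  [0, 0, 0, 0, 0, 0, 0, 0, 4, 4, 0, 0, 0, -4, 0, 0, 0, 0, 0, 0, 0, 0, -4, 0],
  [0, 0, 0, 0, 0, 0, 0, -4, 0, 0, 0, 0, -4, 0, 0, 0, 0, 0, 0, 4, 4, 0, 0, 0],
  [0, 0, -4, 0, 0, 0, 0, 0, 0, 0, 4, 4, 0, 0, 0, 0, 0, 0, 0, 0, 0, 0, 0, -4],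
  [0, 4, 0, 4, 0, 0, 0, 0, 0, 0, 0, 0, 0, 0, 0, 0, -4, 0, 0, 0, 0, -4, 0, 0],
  [0, 0, 0, 0, 0, 0, 0, 4, 0, 0, 0, 0, 4, 0, 0, 0, 0, 0, 0, 4, 4, 0, 0, 0],
  [0, 0, 0, 0, 0, 0, 0, 0, 0, 0, 0, 0, 0, 0, -4, -4, 0, -4, -4, 0, 0, 0, 0, 0],
  [0, 0, 4, 0, 0, 0, 0, 0, 0, 0, 4, 4, 0, 0, 0, 0, 0, 0, 0, 0, 0, 0, 0, 4],
  [0, 4, 0, -4, 0, 0, 0, 0, 0, 0, 0, 0, 0, 0, 0, 0, 4, 0, 0, 0, 0, -4, 0, 0],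
  [0, 0, 0, 0, 0, 0, 0, 0, 4, -4, 0, 0, 0, -4, 0, 0, 0, 0, 0, 0, 0, 0, 4, 0],
  [0, 0, 0, 0, 0, 0, 0, 0, 4, -4, 0, 0, 0, 4, 0, 0, 0, 0, 0, 0, 0, 0, -4, 0],
  [0, 0, 0, 0, 0, 0, 0, 0, 0, 0, 0, 0, 0, 0, -4, 4, 0, -4, 4, 0, 0, 0, 0, 0]]

theorem okA12 : Ok A12 (tr A12) := Cfsg.Agent.CoOneType.CoFast.ok_of_okZ (by decide +kernel)

theorem chkA0 : chk A0 (M 1) = true := by decide +kernel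

theorem chkA6 : chk A6 (Q6) = true := by decide +kernel

theorem chkA8 : chk A8 (M 29) = true := by decide +kernel

theorem chkA12 : chk A12 (Q12) = true := by decide +kernel

/-- **Elements of order three.** -/
theorem three {s : Co1} (hs : orderOf s = 3) : ∃ a b : Co1, orderOf a = 13 ∧ orderOf b = 13 ∧ s = a * b := by
  obtain ⟨c, hc, g, hg⟩ := classes hs
  have h3 : orderOf (QuotientGroup.mk c : Co1) = 3 := by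
    rw [← hg, ← hs, ← MulAut.conj_apply, MulEquiv.orderOf_eq]
  have key : ∃ a b : Co1, orderOf a = 13 ∧ orderOf b = 13 ∧ (QuotientGroup.mk c : Co1) = a * b := by
    rcases hc with rfl | rfl | rfl | rfl
    · exact prod_of_chk okA0 rep0 chkA0 h3
    · exact prod_of_chk okA6 rep6 chkA6 h3
    · exact prod_of_chk okA8 rep8 chkA8 h3
    · exact prod_of_chk okA12 rep12 chkA12 h3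
  obtain ⟨a, b, ha, hb, hab⟩ := key
  refine ⟨g⁻¹ * a * g, g⁻¹ * b * g, ?_, ?_, ?_⟩
  · have e : g⁻¹ * a * g = MulAut.conj g⁻¹ a := by rw [MulAut.conj_apply, inv_inv]
    rw [e, MulEquiv.orderOf_eq, ha]
  · have e : g⁻¹ * b * g = MulAut.conj g⁻¹ b := by rw [MulAut.conj_apply, inv_inv]
    rw [e, MulEquiv.orderOf_eq, hb]
  · calc s = g⁻¹ * (g * s * g⁻¹) * g := by group
      _ = g⁻¹ * (a * b) * g := by rw [hg, hab]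
      _ = g⁻¹ * a * g * (g⁻¹ * b * g) := by group

end Cfsg.Agent.H909.PwM
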